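import Groth.Agent.Wt.Pure
import Groth.Agent.GmFppf.Powers

/-!
# Finite flat covers with a single geometric point over a given point
-/

set_option autoImplicit false
set_option linter.style.haveILetI false
set_option backward.isDefEq.respectTransparency.types false

universe u

open CategoryTheory CategoryTheory.Limits AlgebraicGeometry Opposite

noncomputable section

namespace Groth.Agent.SmoothAcyc

open Groth.Agent.EtaleSite Groth.Agent.EtFppfCmp Groth.Agent.GmFppf Groth.Agent.Wt Groth.Agent.Wt.Split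

variable {S : Scheme.{u}}

/-- A cover has a single geometric point over `v`. -/
def Single {V T : Over S} (w : V ⟶ T) (v : T.left) : Prop :=
  ∀ (K : Type u) [Field K] [IsAlgClosed K] (a b : Spec (CommRingCat.of K) ⟶ V.left),
    w.left (a (IsLocalRing.closedPoint K)) = v → a ≫ w.left = b ≫ w.left → a = b

theorem eq_of_single {V T : Over S} {w : V ⟶ T} {v : T.left} (h : Single w v) {m : ℕ}
    {p p' : (pow w m).left} (hp : (powHom w m).left p = v) (hp' : (powHom w m).left p' = v) : p = p' := by
  obtain ⟨z, hz₁, hz₂⟩ := Scheme.Pullback.exists_preimage_pullback (f := (powHom w m).left)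
    (g := (powHom w m).left) p p' (hp.trans hp'.symm)
  let K := AlgebraicClosure ((pullback (powHom w m).left (powHom w m).left).residueField z)
  let r : Spec (CommRingCat.of K) ⟶ pullback (powHom w m).left (powHom w m).left :=
    Spec.map (CommRingCat.ofHom (algebraMap
      ((pullback (powHom w m).left (powHom w m).left).residueField z) K)) ≫
      (pullback (powHom w m).left (powHom w m).left).fromSpecResidueField z
  let a := r ≫ pullback.fst _ _
  let a' := r ≫ pullback.snd _ _
  have ha : a (IsLocalRing.closedPoint K) = p := by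
    simp only [a, r, Scheme.Hom.comp_apply]
    exact (congrArg _ (Scheme.fromSpecResidueField_apply z _)).trans hz₁
  have ha' : a' (IsLocalRing.closedPoint K) = p' := by
    simp only [a', r, Scheme.Hom.comp_apply]
    exact (congrArg _ (Scheme.fromSpecResidueField_apply z _)).trans hz₂
  have hc : a ≫ (powHom w m).left = a' ≫ (powHom w m).left := by
    simp only [a, a', Category.assoc, pullback.condition]
  let W : Over S := Over.mk (a ≫ (pow w m).hom)
  let f : W ⟶ pow w m := Over.homMk a rfl
  let f' : W ⟶ pow w m := Over.homMk a' (by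
    show a' ≫ (pow w m).hom = a ≫ (pow w m).hom
    rw [← Over.w (powHom w m), ← Category.assoc, ← hc, Category.assoc])
  have hpt : ∀ k, f ≫ (powTup w m).pt k = f' ≫ (powTup w m).pt k := fun k => by
    have e : ((powTup w m).pt k ≫ w).left = (powHom w m).left :=
      congrArg (fun r : pow w m ⟶ T => r.left) (CechPre.π_hom (fam w) _ k)
    refine Over.OverMorphism.ext (h K (a ≫ ((powTup w m).pt k).left) (a' ≫ ((powTup w m).pt k).left) ?_ ?_)
    · rw [← Scheme.Hom.comp_apply, Category.assoc, ← Over.comp_left, e, Scheme.Hom.comp_apply, ha, hp]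
    · exact (Category.assoc a _ _).trans (((congrArg (a ≫ ·) e).trans
        (hc.trans (congrArg (a' ≫ ·) e).symm)).trans (Category.assoc a' _ _).symm)
  rw [← ha, ← ha', show a = a' from congrArg (fun r : W ⟶ pow w m => r.left)
    (show f = f' from CechPre.hom_ext (fam w) hpt)]

/-- After an étale localisation, part of a finite flat cover is a cover with a single geometric point
over the given point. -/
theorem exists_single {V T : Over S} (w : V ⟶ T) [hw : IsFFCover w] (v : T.left) :
    ∃ (T' : Over S) (g : T' ⟶ T) (t' : T'.left), IsAffine T'.left ∧ Etale g.left ∧ g.left t' = v ∧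
      ∃ (V' : Over S) (w' : V' ⟶ T') (q : V' ⟶ V), w' ≫ g = q ≫ w ∧ IsFFCover w' ∧ Single w' t' := by
  haveI := hw.finite
  haveI := hw.flat
  haveI := hw.lfp
  haveI := hw.surj
  obtain ⟨U, g, u, hg, hgu, J, W, -, hJ, hJmem⟩ := Pure.exists_pureParts w.left v (w.left ⁻¹' {v})
    (w.left.finite_preimage_singleton v) (fun x hx => hx) (fun x _ => w.left.quasiFiniteAt x)
  obtain ⟨y, hy⟩ := w.left.surjective v
  obtain ⟨z, hz₁, hz₂⟩ := Scheme.Pullback.exists_preimage_pullback (f := w.left) (g := g) y u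
    (hy.trans hgu.symm)
  obtain ⟨hpart, hsingle, -⟩ := hJ z (hJmem z hz₂ (by rw [hz₁]; exact hy))
  haveI := hpart.finite
  let r : (W z).toScheme ⟶ U := (W z).ι ≫ pullback.snd w.left g
  haveI : Flat r := inferInstance
  haveI : LocallyOfFinitePresentation r := inferInstance
  let U₀ : U.Opens := ⟨Set.range r, r.isOpenMap.isOpen_range⟩
  obtain ⟨U₁, hU₁, huU₁, hU₁₀⟩ := exists_isAffineOpen_mem_and_subset
    (show u ∈ U₀ from ⟨⟨z, hpart.mem⟩, hpart.map_eq⟩)
  let v₁ := r ∣_ U₁
  haveI : Surjective v₁ := ⟨fun a => by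
    obtain ⟨x, hx⟩ := hU₁₀ a.2
    exact ⟨⟨x, show r x ∈ U₁ by rw [hx]; exact a.2⟩, Subtype.ext ((morphismRestrict_base_coe r U₁ _).trans hx)⟩⟩
  haveI : IsFinite v₁ := MorphismProperty.of_isPullback (isPullback_morphismRestrict r U₁).flip ‹_›
  haveI : Flat v₁ := MorphismProperty.of_isPullback (isPullback_morphismRestrict r U₁).flip ‹_›
  haveI : LocallyOfFinitePresentation v₁ := MorphismProperty.of_isPullback (isPullback_morphismRestrict r U₁).flip ‹_›
  let T' : Over S := Over.mk (U₁.ι ≫ g ≫ T.hom)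
  let gT : T' ⟶ T := Over.homMk (U₁.ι ≫ g) (Category.assoc _ _ _)
  let V' : Over S := Over.mk (v₁ ≫ T'.hom)
  let w' : V' ⟶ T' := Over.homMk v₁ rfl
  let q : V' ⟶ V := Over.homMk ((r ⁻¹ᵁ U₁).ι ≫ (W z).ι ≫ pullback.fst w.left g) (by
    show (_ ≫ _ ≫ _) ≫ V.hom = v₁ ≫ U₁.ι ≫ g ≫ T.hom
    rw [← Over.w w, morphismRestrict_ι_assoc]
    simp only [Category.assoc, r, pullback.condition_assoc])
  refine ⟨T', gT, ⟨u, huU₁⟩, hU₁, MorphismProperty.comp_mem @Etale U₁.ι g inferInstance hg, hgu, V', w', q,
    ?_, ⟨inferInstanceAs (IsFinite v₁), inferInstanceAs (Flat v₁),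
      inferInstanceAs (LocallyOfFinitePresentation v₁), inferInstanceAs (Surjective v₁)⟩, ?_⟩
  · refine Over.OverMorphism.ext ?_
    show v₁ ≫ U₁.ι ≫ g = (_ ≫ _ ≫ _) ≫ w.left
    rw [morphismRestrict_ι_assoc]
    simp only [Category.assoc, r, pullback.condition]
  · intro K _ _ a b ha hab
    let j := (r ⁻¹ᵁ U₁).ι ≫ (W z).ι
    have hab' : a ≫ v₁ = b ≫ v₁ := hab
    have hpt : ∀ c : Spec (CommRingCat.of K) ⟶ V'.left,
        v₁ (c (IsLocalRing.closedPoint K)) = ⟨u, huU₁⟩ → GeomPts.pt (c ≫ j) = z := fun c hc => by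
      refine hpart.unique _ ((r ⁻¹ᵁ U₁).ι (c (IsLocalRing.closedPoint K))).2 ?_
      have := congrArg Subtype.val hc
      rw [morphismRestrict_base_coe] at this
      exact this
    have hb : v₁ (b (IsLocalRing.closedPoint K)) = ⟨u, huU₁⟩ := by
      rw [← Scheme.Hom.comp_apply, ← hab', Scheme.Hom.comp_apply]
      exact ha
    refine (cancel_mono j).1 (hsingle K _ _ (hpt a ha) (hpt b hb) ?_)
    simp only [j, Category.assoc]
    show a ≫ (r ⁻¹ᵁ U₁).ι ≫ r = b ≫ (r ⁻¹ᵁ U₁).ι ≫ r
    rw [← morphismRestrict_ι, ← Category.assoc, ← Category.assoc]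
    exact congrArg (· ≫ U₁.ι) hab'

end Groth.Agent.SmoothAcyc
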