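import Groth.Agent.SmoothAcyc.Solution
import Groth.Agent.SmoothAcyc.Shrink
import Groth.Agent.S0412

/-!
# Smooth commutative group schemes are acyclic for finite flat covers, étale locally
-/

set_option autoImplicit false
set_option linter.style.haveILetI false
set_option backward.isDefEq.respectTransparency.types false

universe u

open CategoryTheory CategoryTheory.Limits AlgebraicGeometry Opposite TensorProduct

noncomputable section

namespace Groth.Agent.SmoothAcyc

open Groth.Agent.EtaleSite Groth.Agent.EtFppfCmp Groth.Agent.GmFppf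

variable {S : Scheme.{u}}

section MorTo

variable {T : Over S} [IsAffine T.left] {L L' : Type u} [CommRing L] [Algebra Γ(T.left, ⊤) L]
  [CommRing L'] [Algebra Γ(T.left, ⊤) L'] {W W' : Over S} (f : W ⟶ T) (τ : L →+* Γ(W.left, ⊤))
  (hτ : τ.comp (algebraMap Γ(T.left, ⊤) L) = f.left.appTop.hom)

theorem toSpecΓ_specMap_base :
    (W.left.toSpecΓ ≫ Spec.map (CommRingCat.ofHom τ)) ≫ base T L =
      W.left.toSpecΓ ≫ Spec.map (CommRingCat.ofHom (τ.comp (algebraMap Γ(T.left, ⊤) L))) ≫
        T.left.isoSpec.inv := by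
  rw [base, Category.assoc, ← Spec.map_comp_assoc]
  rfl

/-- The morphism given by a map on functions. -/
def morTo : W ⟶ obj T L :=
  Over.homMk (W.left.toSpecΓ ≫ Spec.map (CommRingCat.ofHom τ)) (by
    show _ ≫ base T L ≫ T.hom = W.hom
    rw [← Category.assoc, toSpecΓ_specMap_base, hτ]
    show (W.left.toSpecΓ ≫ Spec.map f.left.appTop ≫ T.left.isoSpec.inv) ≫ T.hom = W.hom
    rw [← Category.assoc, ← Scheme.toSpecΓ_naturality, Category.assoc, Category.assoc]
    rw [Scheme.toSpecΓ_isoSpec_inv_assoc, Over.w f])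

theorem morTo_objMap (ψ : L →ₐ[Γ(T.left, ⊤)] L') (τ' : L' →+* Γ(W.left, ⊤))
    (hτ' : τ'.comp (algebraMap Γ(T.left, ⊤) L') = f.left.appTop.hom) (h : τ'.comp ψ.toRingHom = τ) :
    morTo f τ' hτ' ≫ objMap ψ = morTo f τ hτ := by
  refine Over.OverMorphism.ext ?_
  show (_ ≫ Spec.map _) ≫ Spec.map _ = _ ≫ Spec.map _
  rw [Category.assoc, ← Spec.map_comp]
  subst h
  rfl

theorem comp_morTo (g : W' ⟶ W) (f' : W' ⟶ T) (τ' : L →+* Γ(W'.left, ⊤))
    (hτ' : τ'.comp (algebraMap Γ(T.left, ⊤) L) = f'.left.appTop.hom)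
    (h : g.left.appTop.hom.comp τ = τ') : g ≫ morTo f τ hτ = morTo f' τ' hτ' := by
  refine Over.OverMorphism.ext ?_
  show g.left ≫ _ ≫ _ = _ ≫ _
  rw [Scheme.toSpecΓ_naturality_assoc, ← Spec.map_comp]
  subst h
  rfl

theorem morTo_comp {X : Over S} [IsAffine X.left] (q : obj T L ⟶ X) (p : W ⟶ X)
    (h : τ.comp (ringOf q) = p.left.appTop.hom) : morTo f τ hτ ≫ q = p := by
  refine Over.OverMorphism.ext (ext_of_isAffine (CommRingCat.hom_ext ?_))
  rw [← h]
  show (((W.left.toSpecΓ ≫ Spec.map (CommRingCat.ofHom τ)) ≫ q.left).appTop).hom = _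
  rw [Scheme.Hom.comp_appTop, Scheme.Hom.comp_appTop, Scheme.toSpecΓ_appTop,
    Scheme.ΓSpecIso_naturality]
  rfl

end MorTo

variable {G : Over S} [GrpObj G] [IsCommMonObj G] [Smooth G.hom]

omit [Smooth G.hom] in
theorem alg_eq_comp {T W : Over S} [IsAffine T.left] {R : Type u} [CommRing R] [Algebra Γ(T.left, ⊤) R]
    {V : Over S} {w : V ⟶ T} {m : ℕ} (r : W ⟶ obj T R) (p : W ⟶ pow w m)
    (h : p ≫ powHom w m = r ≫ objHom T R) :
    (theta r p h).comp (algebraMap Γ(T.left, ⊤) (R ⊗[Γ(T.left, ⊤)] Γ((pow w m).left, ⊤))) =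
      (p ≫ powHom w m).left.appTop.hom := by
  refine RingHom.ext fun a => ?_
  rw [RingHom.comp_apply, Algebra.TensorProduct.algebraMap_apply',
    theta_one_tmul, algebraMap_pow, Over.comp_left, Scheme.Hom.comp_appTop]
  rfl

set_option maxHeartbeats 800000 in
theorem acyc_single {V T : Over S} (w : V ⟶ T) [hw : IsFFCover w] [IsAffine T.left] (n : ℕ)
    (c : Co w (CGrpSh.ptsPre G) (n + 1)) (hc : dC w c = 0) (v : T.left) (hv : Single w v) :
    ∃ (T' : Over S) (g : T' ⟶ T) (t' : T'.left), Etale g.left ∧ g.left t' = v ∧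
      ∃ (V' : Over S) (w' : V' ⟶ T') (q : V' ⟶ V) (e : w' ≫ g = q ≫ w) (_ : IsFFCover w'),
        ∃ b : Co w' (CGrpSh.ptsPre G) n, dC w' b = res e c := by
  let A := Γ(T.left, ⊤)
  let c₀ : Sec G (pow w (n + 1)) := ev c (powTup w (n + 1))
  have hev : ∀ {W : Over S} (t : Tp w W (n + 1)), ev c t = pull (toPow t) c₀ := fun t =>
    (map_toPow c t).symm
  have hcc : ∑ k : Fin (n + 3), (-1 : ℤ) ^ (k : ℕ) • pull (faceMor w k.succAbove) c₀ = 0 := by
    refine Eq.trans ?_ ((ev_dC c (powTup w (n + 2))).symm.trans (by rw [hc, ev_zero]))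
    exact Finset.sum_congr rfl fun k _ =>
      congrArg ((-1 : ℤ) ^ (k : ℕ) • ·) (hev (CechPre.tupFace (fam w) k (powTup w (n + 2)))).symm
  -- a point of the cover above `v`
  haveI := hw.surj
  obtain ⟨y, hy⟩ := w.left.surjective v
  let K := V.left.residueField y
  let ρ : Spec (CommRingCat.of K) ⟶ V.left := V.left.fromSpecResidueField y
  letI : Algebra A K := ((ρ ≫ w.left).appTop ≫ (Scheme.ΓSpecIso (CommRingCat.of K)).hom).hom.toAlgebra
  have hb : base T K = ρ ≫ w.left := by
    refine ext_of_isAffine ?_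
    rw [← cancel_mono (Scheme.ΓSpecIso (CommRingCat.of K)).hom]
    exact CommRingCat.hom_ext (ringOf_objHom (T := T) (L := K))
  let s : obj T K ⟶ V := Over.homMk ρ (by
    show ρ ≫ V.hom = base T K ≫ T.hom
    rw [hb, Category.assoc, Over.w w])
  have hs : s ≫ w = objHom T K := Over.OverMorphism.ext hb.symm
  have hbv : ∀ p, base T K p = v := fun p => by
    rw [hb, Scheme.Hom.comp_apply, show ρ p = y from Scheme.fromSpecResidueField_apply y p, hy]
  -- the contraction
  let inc : ∀ m, K →ₐ[A] Lv w K m := fun m => Algebra.TensorProduct.includeLeft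
  let vv : ∀ m, obj T (Lv w K m) ⟶ V := fun m => objMap (inc m) ≫ s
  have hvv : ∀ m, vv m ≫ w = objHom T _ := fun m => by rw [Category.assoc, hs, objMap_hom]
  let tp : ∀ m, Tp w (obj T (Lv w K m)) m := fun m =>
    CechPre.tupMap (fam w) (qB w K m) (powTup w m)
  have htp : ∀ m k, (tp m).pt k ≫ w = objHom T _ := fun m k =>
    (Category.assoc _ _ _).trans
      ((congrArg (qB w K m ≫ ·) (CechPre.π_hom (fam w) _ k)).trans (qB_hom w m))
  let cn : ∀ m, Tp w (obj T (Lv w K m)) (m + 1) := fun m =>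
    consTp (vv m) (tp m) ((hvv m).trans (htp m 0).symm)
  have hbase : ∀ m p, base T (Lv w K m) p = v := fun m p => by
    rw [show base T (Lv w K m) = (objMap (inc m) ≫ objHom T K).left from
      (congrArg (fun r => r.left) (objMap_hom (inc m))).symm, Over.comp_left, Scheme.Hom.comp_apply]
    exact hbv _
  obtain ⟨m₀, hm₀⟩ := exists_toSec (ev c (cn n))
  -- the equation
  have hd : dS w K n (toSec m₀) = cB w K c₀ := by
    rw [hm₀]
    have h := ev_dC c (cn (n + 1))
    rw [hc, ev_zero, Fin.sum_univ_succ, Fin.val_zero, pow_zero, one_smul] at h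
    have h0 : ev c (CechPre.tupFace (fam w) 0 (cn (n + 1))) = cB w K c₀ := by
      rw [show CechPre.tupFace (fam w) 0 (cn (n + 1)) = tp (n + 1) from Tp.ext' fun k => by
        simp [cn, consTp, mkTp, CechPre.tupFace, Tp.pt]]
      exact (map_ev c (qB w K (n + 1)) (powTup w (n + 1))).symm
    have hi : ∀ i : Fin (n + 2), ev c (CechPre.tupFace (fam w) i.succ (cn (n + 1))) =
        pull (objMap (lvFace w K i.succAbove)) (ev c (cn n)) := fun i => by
      refine Eq.trans (congrArg (ev c) (Tp.ext' fun k => ?_))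
        (map_ev c (objMap (lvFace w K i.succAbove)) (cn n)).symm
      show (cn (n + 1)).pt (i.succ.succAbove k) = objMap (lvFace w K i.succAbove) ≫ (cn n).pt k
      induction k using Fin.cases with
      | zero =>
        rw [Fin.succ_succAbove_zero]
        show vv (n + 1) = objMap (lvFace w K i.succAbove) ≫ objMap (inc n) ≫ s
        rw [← Category.assoc, objMap_comp]
        refine congrArg (fun r => objMap r ≫ s) (AlgHom.ext fun a => ?_)
        simp [inc]
      | succ j =>
        rw [Fin.succ_succAbove_succ]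
        show qB w K (n + 1) ≫ (powTup w (n + 1)).pt (i.succAbove j) =
          objMap (lvFace w K i.succAbove) ≫ qB w K n ≫ (powTup w n).pt j
        rw [← faceMor_pt w i.succAbove j, ← Category.assoc (objMap _), qB_face, Category.assoc]
    simp only [h0, hi, Fin.val_succ, pow_succ, mul_neg, _root_.mul_one, neg_smul, Finset.sum_neg_distrib,
      ← sub_eq_add_neg, ← dS_apply] at h
    exact (sub_eq_zero.1 h.symm).symm
  -- the charts
  obtain ⟨mc, hmc⟩ := exists_toSec c₀
  let P₀ : (pow w (n + 1)).left ⟶ PT T G := pullback.lift mc.left (powHom w (n + 1)).left (by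
    rw [Over.w mc, Over.w (powHom w (n + 1))])
  have hm₀' : m₀ = toPow (cn n) ≫ mc := toSec_injective (by rw [hm₀, hev, ← hmc, pull_toSec])
  have hcnh : toPow (cn n) ≫ powHom w (n + 1) = objHom T _ := by
    rw [toPow_hom]
    exact hvv n
  have hto : toP m₀ = (toPow (cn n)).left ≫ P₀ := by
    refine pullback.hom_ext ?_ ?_
    · rw [toP, pullback.lift_fst, Category.assoc, pullback.lift_fst, hm₀']
      rfl
    · rw [toP, pullback.lift_snd, Category.assoc, pullback.lift_snd, ← Over.comp_left, hcnh]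
      rfl
  haveI : Surjective (powHom w (n + 1)).left := prop_powHom w @Surjective hw.surj (n + 1)
  obtain ⟨p₁, hp₁⟩ := (powHom w (n + 1)).left.surjective v
  obtain ⟨U, hU, hpU, -⟩ := exists_isAffineOpen_mem_and_subset
    (show P₀ p₁ ∈ (⊤ : (PT T G).Opens) from trivial)
  have hland : Lands U m₀ := fun p => by
    rw [hto, Scheme.Hom.comp_apply, eq_of_single hv (p := (toPow (cn n)).left p) ?_ hp₁]
    · exact hpU
    · rw [← Scheme.Hom.comp_apply, ← Over.comp_left, hcnh]
      exact hbase n p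
  obtain ⟨e₁, he₁⟩ := exists_toSec (0 : Sec G T)
  let εT : T.left ⟶ PT T G := pullback.lift e₁.left (𝟙 _) (by rw [Over.w e₁, Category.id_comp])
  obtain ⟨U₀, hU₀, hεU, -⟩ := exists_isAffineOpen_mem_and_subset
    (show εT v ∈ (⊤ : (PT T G).Opens) from trivial)
  have hone : ∀ (L : Type u) [CommRing L] [Algebra A L] (o : obj T L ⟶ G), toSec o = 0 →
      (∀ p, base T L p = v) → Lands U₀ o := fun L _ _ o ho hbL p => by
    have : toP o = base T L ≫ εT := by
      refine pullback.hom_ext ?_ ?_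
      · rw [toP, pullback.lift_fst, Category.assoc, pullback.lift_fst,
          show o = objHom T L ≫ e₁ from toSec_injective (by rw [ho, ← pull_toSec, he₁, map_zero])]
        rfl
      · rw [toP, pullback.lift_snd, Category.assoc, pullback.lift_snd, Category.comp_id]
    rw [this, Scheme.Hom.comp_apply, hbL p]
    exact hεU
  obtain ⟨R, _, _, hsm, ⟨φ⟩, ξ, hξ⟩ := exists_smooth_solution w n c₀ hcc hU hU₀ K m₀ hland hd
    (hone _ _ rfl (hbase (n + 1))) (hone _ _ rfl hbv)
  -- an étale neighbourhood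
  haveI : Smooth (base T R) := by
    haveI : Smooth (Spec.map (CommRingCat.ofHom (algebraMap A R))) :=
      (HasRingHomProperty.Spec_iff (P := @Smooth)).2 (RingHom.smooth_algebraMap.2 hsm)
    rw [base]
    infer_instance
  have hrange : v ∈ Set.range (base T R) := by
    refine ⟨(objMap φ).left (default : Spec (CommRingCat.of K)), ?_⟩
    rw [← Scheme.Hom.comp_apply]
    show ((objMap φ ≫ objHom T R).left) (default : Spec (CommRingCat.of K)) = v
    rw [objMap_hom]
    exact hbv _
  obtain ⟨T₀, g₀, t', hg₀, ht', l, hl⟩ := Groth.Agent.S0412.result (base T R) v hrange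
  let T' : Over S := Over.mk (g₀ ≫ T.hom)
  let g : T' ⟶ T := Over.homMk g₀ rfl
  let lm : T' ⟶ obj T R := Over.homMk l (by
    show l ≫ base T R ≫ T.hom = g₀ ≫ T.hom
    rw [← Category.assoc, hl])
  have hlm : lm ≫ objHom T R = g := Over.OverMorphism.ext hl
  let w' := bcHom g w
  let e : w' ≫ g = bcSnd g w ≫ w := bc_condition g w
  have hcomp : ∀ {W : Over S} {m : ℕ} (t : Tp w' W m),
      toPow (resTp e t) ≫ powHom w m = (t.pt 0 ≫ w' ≫ lm) ≫ objHom T R := fun {W} {m} t => by
    rw [toPow_hom, Category.assoc, Category.assoc, hlm, e, ← Category.assoc]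
    rfl
  let μt : ∀ {W : Over S} {m : ℕ} (t : Tp w' W m), W ⟶ obj T (Lv w R m) := fun {W} {m} t =>
    morTo (toPow (resTp e t) ≫ powHom w m) (theta (t.pt 0 ≫ w' ≫ lm) (toPow (resTp e t)) (hcomp t))
      (alg_eq_comp _ _ (hcomp t))
  let b : Co w' (CGrpSh.ptsPre G) n :=
    CechPre.lift (fam w') (CGrpSh.ptsPre G) (fun W t => pull (μt (W := W.unop) t) ξ)
      (fun W W' i t => by
        show pull (μt (W := W'.unop) (CechPre.tupMap (fam w') i.unop t)) ξ =
          pull i.unop (pull (μt t) ξ)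
        rw [pull_pull]
        refine congrArg (fun r => pull r ξ) (comp_morTo _ _ _ i.unop _ _ _ (RingHom.ext fun z => ?_)).symm
        refine theta_map _ _ _ i.unop _ _ _ ?_ ?_ z
        · exact Category.assoc _ _ _
        · exact (congrArg toPow (Tp.ext' fun k => Category.assoc _ _ _)).trans
            (CechPre.toObj_map (fam w) i.unop (resTp e t)))
  refine ⟨T', g, t', hg₀, ht', bcObj g w, w', bcSnd g w, e, inferInstance, b, co_ext fun W t => ?_⟩
  rw [ev_res, hev, ev_dC]
  have hface : ∀ k : Fin (n + 2), μt (CechPre.tupFace (fam w') k t) =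
      μt t ≫ objMap (lvFace w R k.succAbove) := fun k => by
    let t₁ : Tp w' W n := CechPre.tupFace (fam w') k t
    let p := toPow (resTp e t)
    have hr : t₁.pt 0 ≫ w' ≫ lm = t.pt 0 ≫ w' ≫ lm := by
      rw [← Category.assoc, ← Category.assoc]
      exact congrArg (· ≫ lm) (t.2 _)
    have hp : p ≫ faceMor w k.succAbove = toPow (resTp e t₁) :=
      toPow_faceMor w _ _ (resTp e t₁) fun _ => rfl
    have hf : toPow (resTp e t₁) ≫ powHom w n = p ≫ powHom w (n + 1) := by
      rw [hcomp, hcomp, hr]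
    refine Eq.trans ?_ (morTo_objMap _ _ ?_ (lvFace w R k.succAbove) _ (alg_eq_comp _ _ (hcomp t)) rfl).symm
    · refine Over.OverMorphism.ext ?_
      show _ ≫ Spec.map _ = _ ≫ Spec.map _
      refine congrArg (fun τ => W.left.toSpecΓ ≫ Spec.map (CommRingCat.ofHom τ)) (RingHom.ext fun z => ?_)
      have h2 : toPow (resTp e t₁) ≫ powHom w n = (t.pt 0 ≫ w' ≫ lm) ≫ objHom T R := by
        rw [← hr]
        exact hcomp t₁
      refine Eq.trans ?_ (theta_face (t.pt 0 ≫ w' ≫ lm) p (hcomp t) k.succAbove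
        (toPow (resTp e t₁)) h2 hp z).symm
      congr 1
      simp only [t₁] at hr
      simp only [hr]
      rfl
    · exact RingHom.ext fun a => by
        rw [RingHom.comp_assoc, AlgHom.toRingHom_eq_coe, AlgHom.comp_algebraMap, alg_eq_comp]
  have hsum : ∀ k : Fin (n + 2), ev b (CechPre.tupFace (fam w') k t) =
      pull (μt t) (pull (objMap (lvFace w R k.succAbove)) ξ) := fun k => by
    rw [pull_pull, ← hface]
    exact CechPre.lift_gen (fam w') _ _ _ (op W) _
  simp only [hsum, ← map_zsmul (pull (μt t))]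
  rw [← map_sum, ← dS_apply, hξ, cB, pull_pull]
  haveI := isAffine_pow (w := w) (n + 1)
  refine congrArg (fun r => pull r c₀) (morTo_comp _ _ _ _ _ (RingHom.ext fun x => ?_))
  rw [ringOf_qB]
  exact theta_one_tmul (t.pt 0 ≫ w' ≫ lm) (toPow (resTp e t)) (hcomp t) x

/-- The points of a smooth commutative group scheme are acyclic. -/
theorem acyc_pts : Acyc (CGrpSh.pts Scheme.fppfPrecoverage G) := by
  intro V T w hw n c hc v
  haveI := hw
  obtain ⟨T₁, g₁, t₁, hT₁, hg₁, ht₁, V₁, w₁, q₁, e₁, hw₁, hs⟩ := exists_single w v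
  haveI := hw₁
  haveI := hT₁
  obtain ⟨T', g, t', hg, ht, V', w', q, e, hw', b, hb⟩ :=
    acyc_single (G := G) w₁ n (res e₁ c) ((res_dC e₁ c).symm.trans ((congrArg (res e₁) hc).trans (res_zero e₁))) t₁ hs
  have e'' : w' ≫ g ≫ g₁ = (q ≫ q₁) ≫ w := by
    rw [← Category.assoc, e, Category.assoc, e₁, Category.assoc]
  refine ⟨T', g ≫ g₁, t', ?_, ?_, V', w', q ≫ q₁, e'', hw', b, hb.trans (res_res e₁ e e'' c)⟩
  · rw [Over.comp_left]
    exact MorphismProperty.comp_mem @Etale _ _ hg hg₁
  · rw [Over.comp_left, Scheme.Hom.comp_apply, ht, ht₁]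

end Groth.Agent.SmoothAcyc
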