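import Mathlib

/-!
# Derivations through exact sequences, square zero kernels, and points over a base change
-/

set_option autoImplicit false
set_option linter.style.haveILetI false

universe u

open TensorProduct

noncomputable section

namespace Groth.Agent.SmoothAcyc

/-- Derivations of a formally smooth algebra lift through exact sequences. -/
theorem exists_deriv_comp_eq {A O : Type u} [CommRing A] [CommRing O] [Algebra A O]
    [Algebra.FormallySmooth A O] {M₁ M₂ M₃ : Type*} [AddCommGroup M₁] [Module O M₁] [Module A M₁]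
    [IsScalarTower A O M₁] [AddCommGroup M₂] [Module O M₂] [Module A M₂] [IsScalarTower A O M₂]
    [AddCommGroup M₃] [Module O M₃] [Module A M₃] [IsScalarTower A O M₃]
    (f : M₁ →ₗ[O] M₂) (g : M₂ →ₗ[O] M₃) (h : Function.Exact f g) (D : Derivation A O M₂)
    (hD : ∀ x, g (D x) = 0) : ∃ H : Derivation A O M₁, ∀ x, f (H x) = D x := by
  let l := D.liftKaehlerDifferential
  have hl : g ∘ₗ l = 0 := by
    refine Derivation.liftKaehlerDifferential_unique _ _ (Derivation.ext fun x => ?_)
    show g (l (KaehlerDifferential.D A O x)) = (0 : Ω[O⁄A] →ₗ[O] M₃) (KaehlerDifferential.D A O x)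
    rw [Derivation.liftKaehlerDifferential_comp_D, hD, LinearMap.zero_apply]
  let l' : Ω[O⁄A] →ₗ[O] LinearMap.range f := l.codRestrict _ fun z => by
    rw [← LinearMap.exact_iff.1 h, LinearMap.mem_ker]
    exact LinearMap.congr_fun hl z
  obtain ⟨m, hm⟩ := Module.projective_lifting_property f.rangeRestrict l' f.surjective_rangeRestrict
  refine ⟨m.compDer (KaehlerDifferential.D A O), fun x => ?_⟩
  show f (m (KaehlerDifferential.D A O x)) = D x
  rw [← Derivation.liftKaehlerDifferential_comp_D D]
  exact congrArg Subtype.val (LinearMap.congr_fun hm (KaehlerDifferential.D A O x))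

variable {A : Type u} [CommRing A] {B : Type u} [CommRing B] [Algebra A B] (J : Ideal B) (C : Type u)
  [CommRing C] [Algebra A C]

/-- The inclusion of the part coming from an ideal. -/
abbrev incJ : J ⊗[A] C →ₗ[A] B ⊗[A] C := (J.subtype.restrictScalars A).rTensor C

/-- Reduction modulo an ideal. -/
abbrev red : B ⊗[A] C →ₐ[A] (B ⧸ J) ⊗[A] C :=
  Algebra.TensorProduct.map (Ideal.Quotient.mkₐ A J) (AlgHom.id A C)

theorem incJ_injective [Module.Flat A C] : Function.Injective (incJ (A := A) J C) :=
  Module.Flat.rTensor_preserves_injective_linearMap _ Subtype.val_injective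

theorem red_surjective : Function.Surjective (red (A := A) J C) :=
  TensorProduct.map_surjective (Ideal.Quotient.mkₐ_surjective A J) fun c => ⟨c, rfl⟩

theorem ker_red : RingHom.ker (red (A := A) J C) =
    J.map (Algebra.TensorProduct.includeLeft : B →ₐ[A] B ⊗[A] C) := by
  rw [red, Algebra.TensorProduct.rTensor_ker _ (Ideal.Quotient.mkₐ_surjective A J)]
  congr 1
  exact Ideal.mk_ker

theorem exists_incJ_eq {z : B ⊗[A] C} (hz : z ∈ RingHom.ker (red (A := A) J C)) : ∃ y, incJ J C y = z :=
  (rTensor_exact C (f := J.subtype.restrictScalars A) (g := (Ideal.Quotient.mkₐ A J).toLinearMap)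
    (LinearMap.exact_iff.2 (by
      ext b
      simp [Ideal.Quotient.eq_zero_iff_mem])) (Ideal.Quotient.mkₐ_surjective A J) z).1 hz

theorem incJ_mem (y : J ⊗[A] C) : incJ J C y ∈ RingHom.ker (red (A := A) J C) := by
  induction y using TensorProduct.induction_on with
  | zero => simp
  | tmul j c => simp [RingHom.mem_ker, Ideal.Quotient.eq_zero_iff_mem.2 j.2]
  | add x y hx hy => rw [map_add]; exact add_mem hx hy

theorem mul_eq_zero_of_mem_ker (hJ : J ^ 2 = ⊥) {a b : B ⊗[A] C}
    (ha : a ∈ RingHom.ker (red (A := A) J C)) (hb : b ∈ RingHom.ker (red (A := A) J C)) : a * b = 0 := by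
  rw [ker_red] at ha hb
  have := Ideal.mul_mem_mul ha hb
  rwa [← Ideal.map_mul, ← sq, hJ, Ideal.map_bot, Ideal.mem_bot] at this

/-- Points over a base change to a field lie over every point of the fibre. -/
theorem exists_prime_over {R : Type u} [CommRing R] [Algebra A R] {K : Type u} [Field K] [Algebra A K]
    (χ : R →ₐ[A] K) (p : PrimeSpectrum (R ⊗[A] C))
    (hp : p.asIdeal.comap (Algebra.TensorProduct.includeLeft : R →ₐ[A] R ⊗[A] C) = RingHom.ker χ) :
    ∃ P : PrimeSpectrum (K ⊗[A] C),
      P.asIdeal.comap (Algebra.TensorProduct.map χ (AlgHom.id A C)) = p.asIdeal := by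
  let q : Ideal R := RingHom.ker χ
  haveI : q.IsPrime := RingHom.ker_isPrime χ
  let κ := q.ResidueField
  let a : κ →+* K := Ideal.ResidueField.lift q χ.toRingHom le_rfl (fun r hr => by
    exact isUnit_iff_ne_zero.2 hr)
  let j : R →+* R ⊗[A] C := (Algebra.TensorProduct.includeLeft : R →ₐ[A] R ⊗[A] C).toRingHom
  let b : κ →+* p.asIdeal.ResidueField := Ideal.ResidueField.lift q
    ((algebraMap (R ⊗[A] C) p.asIdeal.ResidueField).comp j)
    (fun r hr => Ideal.algebraMap_residueField_eq_zero.2 (hp.ge hr :))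
    (fun r hr => isUnit_iff_ne_zero.2 fun h => hr (hp.le
      (show j r ∈ p.asIdeal from Ideal.algebraMap_residueField_eq_zero.1 h)))
  obtain ⟨L, _, iK, ip, hcomm⟩ : ∃ (L : Type u) (_ : Field L) (iK : K →+* L)
      (ip : p.asIdeal.ResidueField →+* L), iK.comp a = ip.comp b := by
    letI := a.toAlgebra
    letI := b.toAlgebra
    obtain ⟨m, hm⟩ := Ideal.exists_maximal (K ⊗[κ] p.asIdeal.ResidueField)
    refine ⟨_, Ideal.Quotient.field m, (Ideal.Quotient.mk m).comp Algebra.TensorProduct.includeLeftRingHom,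
      (Ideal.Quotient.mk m).comp
      (Algebra.TensorProduct.includeRight : p.asIdeal.ResidueField →ₐ[κ] K ⊗[κ] p.asIdeal.ResidueField).toRingHom,
      RingHom.ext fun x => ?_⟩
    show Ideal.Quotient.mk m (algebraMap κ K x ⊗ₜ 1) = Ideal.Quotient.mk m (1 ⊗ₜ algebraMap κ p.asIdeal.ResidueField x)
    rw [Algebra.algebraMap_eq_smul_one, Algebra.algebraMap_eq_smul_one, TensorProduct.smul_tmul]
  letI : Algebra A L := (iK.comp (algebraMap A K)).toAlgebra
  let iKA : K →ₐ[A] L := { toRingHom := iK, commutes' := fun _ => rfl }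
  let g := ip.comp (algebraMap (R ⊗[A] C) p.asIdeal.ResidueField)
  have hg : ∀ r : R, g (r ⊗ₜ 1) = iK (χ r) := fun r => by
    have h := congr($hcomm (algebraMap R κ r))
    simp only [RingHom.comp_apply] at h
    rw [show a (algebraMap R κ r) = χ r from Ideal.ResidueField.lift_algebraMap q _ _ _ r] at h
    rw [h]
    refine congrArg ip ?_
    exact (Ideal.ResidueField.lift_algebraMap q
      ((algebraMap (R ⊗[A] C) p.asIdeal.ResidueField).comp j) _ _ r).symm
  let gA : R ⊗[A] C →ₐ[A] L :=
    { toRingHom := g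
      commutes' := fun x => by
        show g (algebraMap A (R ⊗[A] C) x) = iK (algebraMap A K x)
        rw [Algebra.TensorProduct.algebraMap_apply, hg, AlgHom.commutes] }
  let ψ : K ⊗[A] C →ₐ[A] L := Algebra.TensorProduct.lift iKA
    (gA.comp Algebra.TensorProduct.includeRight) fun _ _ => Commute.all _ _
  have hψ : ψ.comp (Algebra.TensorProduct.map χ (AlgHom.id A C)) = gA := by
    refine Algebra.TensorProduct.ext (AlgHom.ext fun r => ?_) (AlgHom.ext fun c => ?_)
    · simp [ψ, iKA, gA, hg]
    · simp [ψ, iKA, gA]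
  refine ⟨⟨RingHom.ker ψ, RingHom.ker_isPrime ψ⟩, ?_⟩
  ext z
  simp only [Ideal.mem_comap, RingHom.mem_ker]
  rw [show ψ (Algebra.TensorProduct.map χ (AlgHom.id A C) z) = gA z from congr($hψ z)]
  show ip _ = 0 ↔ _
  rw [map_eq_zero_iff ip ip.injective, Ideal.algebraMap_residueField_eq_zero]

end Groth.Agent.SmoothAcyc
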