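import Groth.Agent.GmFppf.Powers

/-!
# The complex of functions on the powers of a finite flat cover is universally exact
-/

set_option autoImplicit false
set_option linter.style.haveILetI false
set_option backward.isDefEq.respectTransparency.types false

universe u

open CategoryTheory CategoryTheory.Limits AlgebraicGeometry Opposite TensorProduct

noncomputable section

namespace Groth.Agent.SmoothAcyc

open Groth.Agent.EtaleSite Groth.Agent.EtFppfCmp Groth.Agent.GmFppf

variable {S : Scheme.{u}} {V T : Over S} (w : V ⟶ T) [IsAffine T.left]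

/-- The alternating sum of the faces. -/
def dA (m : ℕ) : Γ((pow w m).left, ⊤) →ₗ[Γ(T.left, ⊤)] Γ((pow w (m + 1)).left, ⊤) :=
  ∑ k : Fin (m + 2), (-1 : ℤ) ^ (k : ℕ) • (faceAlg w k.succAbove).toLinearMap

theorem dA_apply (m : ℕ) (x : Γ((pow w m).left, ⊤)) :
    dA w m x = ∑ k : Fin (m + 2), (-1 : ℤ) ^ (k : ℕ) • faceAlg w k.succAbove x := by
  simp [dA, LinearMap.sum_apply]

theorem dA_dA (m : ℕ) : dA w (m + 1) ∘ₗ dA w m = 0 := by
  refine LinearMap.ext fun x => ?_
  have h := dF_dF (fun τ : Fin (m + 1) → Fin (m + 3) => faceAlg w τ x) id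
  simp only [dF, Function.id_comp] at h
  simp only [LinearMap.comp_apply, dA_apply, map_sum, map_zsmul, LinearMap.zero_apply]
  rw [← h]
  simp only [Finset.smul_sum]
  rw [Finset.sum_comm]
  refine Finset.sum_congr rfl fun k _ => Finset.sum_congr rfl fun j _ => ?_
  rw [← faceAlg_comp w j.succAbove k.succAbove, AlgHom.comp_apply, smul_smul, smul_smul, mul_comm]

variable (L : Type u) [CommRing L] [Algebra Γ(T.left, ⊤) L]

theorem lTensor_dA (m : ℕ) (y : L ⊗[Γ(T.left, ⊤)] Γ((pow w m).left, ⊤)) :
    (dA w m).lTensor L y = ∑ k : Fin (m + 2), (-1 : ℤ) ^ (k : ℕ) • bcA L (faceAlg w k.succAbove) y := by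
  induction y using TensorProduct.induction_on with
  | zero => simp
  | tmul a c =>
    rw [LinearMap.lTensor_tmul, dA_apply, TensorProduct.tmul_sum]
    refine Finset.sum_congr rfl fun k _ => ?_
    rw [Algebra.TensorProduct.map_tmul]
    exact map_zsmul (TensorProduct.mk Γ(T.left, ⊤) L _ a) _ _
  | add x y hx hy => simp only [map_add, hx, hy, smul_add, Finset.sum_add_distrib]

variable [hw : IsFFCover w]

include hw

theorem faithfullyFlat_pow (m : ℕ) : Module.FaithfullyFlat Γ(T.left, ⊤) Γ((pow w m).left, ⊤) := by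
  haveI := isAffine_pow (w := w) m
  haveI := moduleFlat_pow (w := w) m
  refine Module.FaithfullyFlat.of_comap_surjective fun p => ?_
  haveI : Surjective (powHom w m).left := prop_powHom w @Surjective hw.surj m
  have hs : Surjective (Spec.map (powHom w m).left.appTop) := by
    have e := Scheme.isoSpec_hom_naturality (powHom w m).left
    have : Surjective ((pow w m).left.isoSpec.hom ≫ Spec.map (powHom w m).left.appTop) := by
      rw [e]; infer_instance
    exact Surjective.of_comp (pow w m).left.isoSpec.hom _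
  exact hs.surj p

/-- The complex stays exact in positive degrees after tensoring with any module. -/
theorem exact_lTensor_dA (M : Type u) [AddCommGroup M] [Module Γ(T.left, ⊤) M] (n : ℕ) :
    Function.Exact ((dA w n).lTensor M) ((dA w (n + 1)).lTensor M) := by
  let A := Γ(T.left, ⊤)
  let L := Γ((pow w 0).left, ⊤)
  haveI := faithfullyFlat_pow w 0
  obtain ⟨p, hp, -⟩ := exists_point (w := w) 0 (AlgHom.id A L)
  let s : obj T L ⟶ V := p ≫ (powTup w 0).pt 0
  have hs : s ≫ w = objHom T L := by
    rw [Category.assoc]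
    exact (congrArg (p ≫ ·) (CechPre.π_hom (fam w) _ 0)).trans hp
  obtain ⟨h, h', h0, hsucc⟩ := exists_homotopy (w := w) L s hs n
  let H : L ⊗[A] Γ((pow w (n + 1)).left, ⊤) →ₗ[A] L ⊗[A] Γ((pow w n).left, ⊤) :=
    h.toLinearMap.restrictScalars A
  let H' : L ⊗[A] Γ((pow w (n + 2)).left, ⊤) →ₗ[A] L ⊗[A] Γ((pow w (n + 1)).left, ⊤) :=
    h'.toLinearMap.restrictScalars A
  have hid : H' ∘ₗ (dA w (n + 1)).lTensor L + (dA w n).lTensor L ∘ₗ H = LinearMap.id := by
    refine LinearMap.ext fun y => ?_
    show h' ((dA w (n + 1)).lTensor L y) + (dA w n).lTensor L (h y) = y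
    rw [lTensor_dA, lTensor_dA, map_sum, Fin.sum_univ_succ, add_assoc, ← Finset.sum_add_distrib,
      Finset.sum_eq_zero fun i _ => ?_, add_zero]
    · rw [Fin.val_zero, pow_zero, one_smul]
      exact h0 y
    · rw [map_zsmul, hsucc, Fin.val_succ, pow_succ, mul_neg, mul_one, neg_smul, neg_add_cancel]
  refine Module.FaithfullyFlat.lTensor_reflects_exact A L _ _ ?_
  refine LinearMap.exact_iff.2 (le_antisymm ?_ ?_)
  · intro y hy
    let e : ∀ m, L ⊗[A] (M ⊗[A] Γ((pow w m).left, ⊤)) ≃ₗ[A] M ⊗[A] (L ⊗[A] Γ((pow w m).left, ⊤)) :=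
      fun m => TensorProduct.leftComm A L M _
    have nat : ∀ m z, e (m + 1) (((dA w m).lTensor M).lTensor L z) =
        ((dA w m).lTensor L).lTensor M (e m z) := fun m z => by
      have : (e (m + 1)).toLinearMap ∘ₗ ((dA w m).lTensor M).lTensor L =
          ((dA w m).lTensor L).lTensor M ∘ₗ (e m).toLinearMap :=
        TensorProduct.ext_threefold' fun a b c => rfl
      exact LinearMap.congr_fun this z
    have hid' := congrArg (fun f => LinearMap.lTensor M f (e (n + 1) y)) hid
    simp only [LinearMap.lTensor_add, LinearMap.lTensor_comp, LinearMap.lTensor_id, LinearMap.add_apply,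
      LinearMap.comp_apply, LinearMap.id_apply, ← nat (n + 1), show ((dA w (n + 1)).lTensor M).lTensor L y = 0 from hy,
      map_zero, zero_add] at hid'
    refine ⟨(e n).symm (H.lTensor M (e (n + 1) y)), (e (n + 1)).injective ?_⟩
    rw [nat, LinearEquiv.apply_symm_apply]
    exact hid'
  · rw [LinearMap.range_le_ker_iff, ← LinearMap.lTensor_comp, ← LinearMap.lTensor_comp, dA_dA,
      LinearMap.lTensor_zero, LinearMap.lTensor_zero]

end Groth.Agent.SmoothAcyc
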