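import Groth.Agent.SmoothAcyc.Points
import Groth.Agent.SmoothAcyc.Exact
import Groth.Agent.GmFppf.Acyc

/-!
# Sections on the base changes of the powers of a finite flat cover
-/

set_option autoImplicit false
set_option linter.style.haveILetI false
set_option backward.isDefEq.respectTransparency.types false

universe u

open CategoryTheory CategoryTheory.Limits AlgebraicGeometry Opposite TensorProduct

noncomputable section

namespace Groth.Agent.SmoothAcyc

open Groth.Agent.EtaleSite Groth.Agent.EtFppfCmp Groth.Agent.GmFppf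

variable {S : Scheme.{u}} {V T : Over S} (w : V ⟶ T) [IsAffine T.left] {G : Over S} [GrpObj G]
  [IsCommMonObj G] {B B' : Type u} [CommRing B] [Algebra Γ(T.left, ⊤) B] [CommRing B']
  [Algebra Γ(T.left, ⊤) B']

/-- The functions on a base change of a power. -/
abbrev Lv (B : Type u) [CommRing B] [Algebra Γ(T.left, ⊤) B] (m : ℕ) : Type u :=
  B ⊗[Γ(T.left, ⊤)] Γ((pow w m).left, ⊤)

/-- Change of the base ring on a level. -/
abbrev lvMap (ψ : B →ₐ[Γ(T.left, ⊤)] B') (m : ℕ) : Lv w B m →ₐ[Γ(T.left, ⊤)] Lv w B' m :=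
  chg Γ((pow w m).left, ⊤) ψ

variable (B) in
/-- A face. -/
abbrev lvFace {k m : ℕ} (τ : Fin (k + 1) → Fin (m + 1)) : Lv w B k →ₐ[Γ(T.left, ⊤)] Lv w B m :=
  (bcA B (faceAlg w τ)).restrictScalars Γ(T.left, ⊤)

theorem lvMap_lvFace (ψ : B →ₐ[Γ(T.left, ⊤)] B') {k m : ℕ} (τ : Fin (k + 1) → Fin (m + 1)) :
    (lvMap w ψ m).comp (lvFace w B τ) = (lvFace w B' τ).comp (lvMap w ψ k) :=
  AlgHom.ext fun z => chg_bcA ψ (faceAlg w τ) z

theorem lvFace_lvFace {k m l : ℕ} (τ : Fin (k + 1) → Fin (m + 1)) (τ' : Fin (m + 1) → Fin (l + 1)) :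
    (lvFace w B τ').comp (lvFace w B τ) = lvFace w B (τ' ∘ τ) := AlgHom.ext fun z => by
  show bcA B (faceAlg w τ') (bcA B (faceAlg w τ) z) = bcA B (faceAlg w (τ' ∘ τ)) z
  rw [bcA_bcA, faceAlg_comp]

theorem objMap_comp {L L' L'' : Type u} [CommRing L] [Algebra Γ(T.left, ⊤) L] [CommRing L']
    [Algebra Γ(T.left, ⊤) L'] [CommRing L''] [Algebra Γ(T.left, ⊤) L'']
    (ψ : L →ₐ[Γ(T.left, ⊤)] L') (ψ' : L' →ₐ[Γ(T.left, ⊤)] L'') :
    objMap ψ' ≫ objMap ψ = objMap (T := T) (ψ'.comp ψ) := by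
  refine Over.OverMorphism.ext ?_
  show Spec.map _ ≫ Spec.map _ = Spec.map _
  rw [← Spec.map_comp]
  rfl

variable (B) in
/-- The differential on sections. -/
def dS (m : ℕ) : Sec G (obj T (Lv w B m)) →+ Sec G (obj T (Lv w B (m + 1))) :=
  ∑ k : Fin (m + 2), (-1 : ℤ) ^ (k : ℕ) • pull (objMap (lvFace w B k.succAbove))

theorem dS_apply (m : ℕ) (x : Sec G (obj T (Lv w B m))) :
    dS w B m x = ∑ k : Fin (m + 2), (-1 : ℤ) ^ (k : ℕ) • pull (objMap (lvFace w B k.succAbove)) x := by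
  simp [dS]

theorem pull_dS (ψ : B →ₐ[Γ(T.left, ⊤)] B') (m : ℕ) (x : Sec G (obj T (Lv w B m))) :
    pull (objMap (lvMap w ψ (m + 1))) (dS w B m x) = dS w B' m (pull (objMap (lvMap w ψ m)) x) := by
  simp only [dS_apply, map_sum, map_zsmul, pull_pull, objMap_comp, lvMap_lvFace]

theorem dS_dS (m : ℕ) (x : Sec G (obj T (Lv w B m))) : dS w B (m + 1) (dS w B m x) = 0 := by
  have h := dF_dF (fun τ : Fin (m + 1) → Fin (m + 3) => pull (objMap (lvFace w B τ)) x) id
  simp only [dF, Function.id_comp] at h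
  simp only [dS_apply, map_sum, map_zsmul, pull_pull, objMap_comp, lvFace_lvFace]
  rw [← h]
  simp only [Finset.smul_sum]
  rw [Finset.sum_comm]
  refine Finset.sum_congr rfl fun k _ => Finset.sum_congr rfl fun j _ => ?_
  rw [smul_smul, smul_smul, mul_comm]

variable [hw : IsFFCover w]

variable (B) in
/-- The projection to the power. -/
def qB (m : ℕ) : obj T (Lv w B m) ⟶ pow w m :=
  (exists_point (w := w) m
    (Algebra.TensorProduct.includeRight : Γ((pow w m).left, ⊤) →ₐ[Γ(T.left, ⊤)] Lv w B m)).choose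

theorem qB_hom (m : ℕ) : qB w B m ≫ powHom w m = objHom T _ :=
  (exists_point (w := w) m _).choose_spec.1

theorem ringOf_qB (m : ℕ) : ringOf (qB w B m) =
    (Algebra.TensorProduct.includeRight : Γ((pow w m).left, ⊤) →ₐ[Γ(T.left, ⊤)] Lv w B m).toRingHom :=
  (exists_point (w := w) m _).choose_spec.2

theorem qB_map (ψ : B →ₐ[Γ(T.left, ⊤)] B') (m : ℕ) : objMap (lvMap w ψ m) ≫ qB w B m = qB w B' m := by
  haveI := isAffine_pow (w := w) m
  refine hom_ext_ringOf ?_
  rw [ringOf_objMap, ringOf_qB, ringOf_qB]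
  refine RingHom.ext fun x => ?_
  simp

theorem qB_face {k m : ℕ} (τ : Fin (k + 1) → Fin (m + 1)) :
    objMap (lvFace w B τ) ≫ qB w B k = qB w B m ≫ faceMor w τ := by
  haveI := isAffine_pow (w := w) k
  refine hom_ext_ringOf ?_
  rw [ringOf_objMap, ringOf_qB, ringOf_comp, ringOf_qB]
  refine RingHom.ext fun x => ?_
  simp [faceAlg]

variable {n : ℕ} (c₀ : Sec G (pow w (n + 1)))

variable (B) in
/-- The cocycle on a base change. -/
def cB : Sec G (obj T (Lv w B (n + 1))) := pull (qB w B (n + 1)) c₀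

theorem pull_cB (ψ : B →ₐ[Γ(T.left, ⊤)] B') :
    pull (objMap (lvMap w ψ (n + 1))) (cB w B c₀) = cB w B' c₀ := by
  rw [cB, cB, pull_pull, qB_map]

theorem dS_cB (hc : ∑ k : Fin (n + 3), (-1 : ℤ) ^ (k : ℕ) • pull (faceMor w k.succAbove) c₀ = 0) :
    dS w B (n + 1) (cB w B c₀) = 0 := by
  refine Eq.trans ?_ (map_zero (pull (G := G) (qB w B (n + 2))))
  rw [← hc, dS_apply, map_sum]
  refine Finset.sum_congr rfl fun k _ => ?_
  rw [map_zsmul, cB, pull_pull, pull_pull, qB_face]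

end Groth.Agent.SmoothAcyc
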