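import Groth.Agent.GmFppf.Powers
import Groth.Prelude.Def_CGrpSh

/-!
# Points of a group scheme in an affine chart
-/

set_option autoImplicit false
set_option linter.style.haveILetI false
set_option backward.isDefEq.respectTransparency.types false

universe u

open CategoryTheory CategoryTheory.Limits AlgebraicGeometry Opposite

noncomputable section

namespace Groth.Agent.SmoothAcyc

open Groth.Agent.GmFppf

variable {S : Scheme.{u}} {T : Over S} [IsAffine T.left] {G : Over S}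

/-- The base change of `G` to `T`. -/
abbrev PT (T G : Over S) : Scheme.{u} := pullback G.hom T.hom

variable (U : (PT T G).Opens)

instance algebraChart : Algebra Γ(T.left, ⊤) Γ(PT T G, U) :=
  ((pullback.snd G.hom T.hom).appLE ⊤ U (fun _ _ => trivial)).hom.toAlgebra

variable {U} (hU : IsAffineOpen U) {L L' : Type u} [CommRing L] [Algebra Γ(T.left, ⊤) L] [CommRing L']
  [Algebra Γ(T.left, ⊤) L']

theorem fromSpec_snd :
    hU.fromSpec ≫ pullback.snd G.hom T.hom =
      Spec.map (CommRingCat.ofHom (algebraMap Γ(T.left, ⊤) Γ(PT T G, U))) ≫ T.left.isoSpec.inv := by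
  rw [← IsAffineOpen.SpecMap_appLE_fromSpec (pullback.snd G.hom T.hom) (isAffineOpen_top T.left) hU
    (fun _ _ => trivial), IsAffineOpen.fromSpec_top]
  rfl

theorem specMap_fromSpec_snd (φ : Γ(PT T G, U) →ₐ[Γ(T.left, ⊤)] L) :
    Spec.map (CommRingCat.ofHom φ.toRingHom) ≫ hU.fromSpec ≫ pullback.snd G.hom T.hom = base T L := by
  rw [fromSpec_snd hU, base, ← Category.assoc, ← Spec.map_comp]
  exact congrArg (fun r => Spec.map r ≫ T.left.isoSpec.inv) (CommRingCat.hom_ext φ.comp_algebraMap)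

/-- The point of an algebra map out of the functions of a chart. -/
def pt (φ : Γ(PT T G, U) →ₐ[Γ(T.left, ⊤)] L) : obj T L ⟶ G :=
  Over.homMk (Spec.map (CommRingCat.ofHom φ.toRingHom) ≫ hU.fromSpec ≫ pullback.fst G.hom T.hom) (by
    show (_ ≫ _ ≫ _) ≫ G.hom = base T L ≫ T.hom
    rw [← specMap_fromSpec_snd hU φ]
    simp only [Category.assoc, pullback.condition])

/-- The point of the base change of a point. -/
def toP (m : obj T L ⟶ G) : Spec (CommRingCat.of L) ⟶ PT T G :=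
  pullback.lift m.left (base T L) (Over.w m)

theorem toP_pt (φ : Γ(PT T G, U) →ₐ[Γ(T.left, ⊤)] L) :
    toP (pt hU φ) = Spec.map (CommRingCat.ofHom φ.toRingHom) ≫ hU.fromSpec := by
  refine pullback.hom_ext ?_ ?_
  · rw [toP, pullback.lift_fst, Category.assoc]
    rfl
  · rw [toP, pullback.lift_snd, Category.assoc]
    exact (specMap_fromSpec_snd hU φ).symm

theorem pt_injective : Function.Injective (pt hU (L := L)) := fun φ ψ h => by
  have e := congrArg toP h
  rw [toP_pt, toP_pt, cancel_mono] at e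
  exact AlgHom.coe_ringHom_injective (congrArg CommRingCat.Hom.hom (Spec.map_injective e))

theorem objMap_pt (ψ : L →ₐ[Γ(T.left, ⊤)] L') (φ : Γ(PT T G, U) →ₐ[Γ(T.left, ⊤)] L) :
    objMap ψ ≫ pt hU φ = pt hU (ψ.comp φ) := by
  refine Over.OverMorphism.ext ?_
  show Spec.map _ ≫ Spec.map _ ≫ _ = Spec.map _ ≫ _
  rw [← Category.assoc, ← Spec.map_comp]
  rfl

theorem toP_objMap (ψ : L →ₐ[Γ(T.left, ⊤)] L') (m : obj T L ⟶ G) :
    toP (objMap ψ ≫ m) = Spec.map (CommRingCat.ofHom ψ.toRingHom) ≫ toP m := by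
  refine pullback.hom_ext ?_ ?_
  · rw [toP, pullback.lift_fst, Category.assoc, toP, pullback.lift_fst]
    rfl
  · rw [toP, pullback.lift_snd, Category.assoc, toP, pullback.lift_snd]
    exact congrArg (fun r => r.left) (objMap_hom ψ).symm

/-- A point with image in the chart. -/
def Lands (U : (PT T G).Opens) (m : obj T L ⟶ G) : Prop := ∀ p, toP m p ∈ U

theorem lands_pt (φ : Γ(PT T G, U) →ₐ[Γ(T.left, ⊤)] L) : Lands U (pt hU φ) := fun p => by
  show _ ∈ (U : Set (PT T G))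
  rw [toP_pt, ← hU.range_fromSpec, Scheme.Hom.comp_apply]
  exact ⟨_, rfl⟩

theorem exists_pt (m : obj T L ⟶ G) (h : Lands U m) : ∃ φ, pt hU φ = m := by
  have hr : Set.range (toP m) ⊆ Set.range hU.fromSpec := by
    rw [hU.range_fromSpec]
    rintro _ ⟨p, rfl⟩
    exact h p
  obtain ⟨φ₀, hφ₀⟩ := Spec.map_surjective (IsOpenImmersion.lift hU.fromSpec (toP m) hr)
  have hl : Spec.map φ₀ ≫ hU.fromSpec = toP m := by rw [hφ₀, IsOpenImmersion.lift_fac]
  have hc : CommRingCat.ofHom (algebraMap Γ(T.left, ⊤) Γ(PT T G, U)) ≫ φ₀ =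
      CommRingCat.ofHom (algebraMap Γ(T.left, ⊤) L) := by
    refine Spec.map_injective ((cancel_mono T.left.isoSpec.inv).1 ?_)
    rw [Spec.map_comp, Category.assoc, ← fromSpec_snd hU, reassoc_of% hl, toP, pullback.lift_snd]
    rfl
  refine ⟨{ toRingHom := φ₀.hom, commutes' := fun a => congr($(hc) a) }, Over.OverMorphism.ext ?_⟩
  show Spec.map φ₀ ≫ hU.fromSpec ≫ pullback.fst G.hom T.hom = m.left
  rw [reassoc_of% hl, toP, pullback.lift_fst]

theorem lands_objMap (ψ : L →ₐ[Γ(T.left, ⊤)] L') {m : obj T L ⟶ G} (h : Lands U m) :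
    Lands U (objMap ψ ≫ m) := fun p => by
  rw [toP_objMap, Scheme.Hom.comp_apply]
  exact h _

theorem lands_of_objMap (ψ : L →ₐ[Γ(T.left, ⊤)] L') (hs : Function.Surjective ψ)
    (hn : ∀ x, ψ x = 0 → x ^ 2 = 0) {m : obj T L ⟶ G} (h : Lands U (objMap ψ ≫ m)) : Lands U m := by
  intro (p : PrimeSpectrum L)
  obtain ⟨q, hq⟩ : p ∈ Set.range (PrimeSpectrum.comap ψ.toRingHom) := by
    rw [range_comap_of_surjective L' ψ.toRingHom hs, PrimeSpectrum.mem_zeroLocus]
    exact fun x hx => p.isPrime.mem_of_pow_mem 2 (by rw [hn x hx]; exact zero_mem _)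
  have h' := h q
  rw [toP_objMap, Scheme.Hom.comp_apply] at h'
  rw [← hq]
  exact h'

section Group

variable [GrpObj G] [IsCommMonObj G]

/-- The group of points. -/
abbrev Sec (G W : Over S) [GrpObj G] [IsCommMonObj G] : Type (u + 1) := (CGrpSh.ptsPre G).obj (op W)

/-- A point as a section. -/
def toSec {W : Over S} (m : W ⟶ G) : Sec G W := ULift.up (Additive.ofMul m)

/-- Restriction of sections. -/
def pull {W W' : Over S} (g : W' ⟶ W) : Sec G W →+ Sec G W' := ((CGrpSh.ptsPre G).map g.op).hom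

theorem pull_toSec {W W' : Over S} (g : W' ⟶ W) (m : W ⟶ G) : pull g (toSec m) = toSec (g ≫ m) := rfl

theorem pull_pull {W W' W'' : Over S} (g : W' ⟶ W) (g' : W'' ⟶ W') (x : Sec G W) :
    pull g' (pull g x) = pull (g' ≫ g) x :=
  congr($(((CGrpSh.ptsPre G).map_comp g.op g'.op).symm) x)

theorem toSec_injective {W : Over S} : Function.Injective (toSec (G := G) (W := W)) := fun _ _ h =>
  Additive.ofMul.injective (ULift.up_injective h)

theorem exists_toSec {W : Over S} (x : Sec G W) : ∃ m : W ⟶ G, toSec m = x := ⟨x.down.toMul, rfl⟩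

/-- The section of an algebra map out of the functions of a chart. -/
def sec (φ : Γ(PT T G, U) →ₐ[Γ(T.left, ⊤)] L) : Sec G (obj T L) := toSec (pt hU φ)

theorem sec_injective : Function.Injective (sec hU (L := L)) := fun _ _ h =>
  pt_injective hU (toSec_injective h)

theorem pull_sec (ψ : L →ₐ[Γ(T.left, ⊤)] L') (φ : Γ(PT T G, U) →ₐ[Γ(T.left, ⊤)] L) :
    pull (objMap ψ) (sec hU φ) = sec hU (ψ.comp φ) := by
  rw [sec, pull_toSec, objMap_pt]
  rfl

theorem exists_sec {m : obj T L ⟶ G} (h : Lands U m) : ∃ φ, sec hU φ = toSec m :=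
  (exists_pt hU m h).imp fun _ e => congrArg toSec e

/-- Congruent points add like algebra maps. -/
theorem exists_add (K : Ideal L) (hK : ∀ a ∈ K, ∀ b ∈ K, a * b = 0)
    (φa φb φ₀ : Γ(PT T G, U) →ₐ[Γ(T.left, ⊤)] L) (ha : ∀ x, φa x - φ₀ x ∈ K)
    (hb : ∀ x, φb x - φ₀ x ∈ K) (h₀ : sec hU φ₀ = 0) :
    ∃ φ, (∀ x, φ x = φa x + φb x - φ₀ x) ∧ sec hU φ = sec hU φa + sec hU φb := by
  let A := Γ(T.left, ⊤)
  let Q : Subalgebra A (L × L × L) :=
    { carrier := {p | p.1 - p.2.2 ∈ K ∧ p.2.1 - p.2.2 ∈ K}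
      mul_mem' := fun {p q} hp hq => by
        refine ⟨?_, ?_⟩
        · show p.1 * q.1 - p.2.2 * q.2.2 ∈ K
          rw [show p.1 * q.1 - p.2.2 * q.2.2 = (p.1 - p.2.2) * q.1 + p.2.2 * (q.1 - q.2.2) by ring]
          exact add_mem (K.mul_mem_right _ hp.1) (K.mul_mem_left _ hq.1)
        · show p.2.1 * q.2.1 - p.2.2 * q.2.2 ∈ K
          rw [show p.2.1 * q.2.1 - p.2.2 * q.2.2 = (p.2.1 - p.2.2) * q.2.1 + p.2.2 * (q.2.1 - q.2.2) by ring]
          exact add_mem (K.mul_mem_right _ hp.2) (K.mul_mem_left _ hq.2)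
      add_mem' := fun {p q} hp hq => by
        refine ⟨?_, ?_⟩
        · show (p.1 + q.1) - (p.2.2 + q.2.2) ∈ K
          rw [add_sub_add_comm]
          exact add_mem hp.1 hq.1
        · show (p.2.1 + q.2.1) - (p.2.2 + q.2.2) ∈ K
          rw [add_sub_add_comm]
          exact add_mem hp.2 hq.2
      algebraMap_mem' := fun a => by simp }
  let p1 : Q →ₐ[A] L := (AlgHom.fst A L (L × L)).comp Q.val
  let p2 : Q →ₐ[A] L := ((AlgHom.fst A L L).comp (AlgHom.snd A L (L × L))).comp Q.val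
  let p3 : Q →ₐ[A] L := ((AlgHom.snd A L L).comp (AlgHom.snd A L (L × L))).comp Q.val
  let σ : Q →ₐ[A] L := AlgHom.ofLinearMap (p1.toLinearMap + p2.toLinearMap - p3.toLinearMap)
    (by simp) (fun p q => by
      show p1 (p * q) + p2 (p * q) - p3 (p * q) = (p1 p + p2 p - p3 p) * (p1 q + p2 q - p3 q)
      rw [map_mul, map_mul, map_mul]
      have h1 : (p1 p - p3 p) * (p2 q - p3 q) = 0 := hK _ p.2.1 _ q.2.2
      have h2 : (p2 p - p3 p) * (p1 q - p3 q) = 0 := hK _ p.2.2 _ q.2.1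
      linear_combination -h1 - h2)
  let φA : Γ(PT T G, U) →ₐ[A] Q := (φa.prod (φ₀.prod φ₀)).codRestrict Q fun x =>
    ⟨ha x, by simp⟩
  let φB : Γ(PT T G, U) →ₐ[A] Q := (φ₀.prod (φb.prod φ₀)).codRestrict Q fun x =>
    ⟨by simp, hb x⟩
  obtain ⟨s, hs⟩ := exists_toSec (sec hU φA + sec hU φB)
  have hp : ∀ (π : Q →ₐ[A] L), toSec (objMap π ≫ s) = sec hU (π.comp φA) + sec hU (π.comp φB) :=
    fun π => by rw [← pull_toSec, hs, map_add, pull_sec, pull_sec]
  have hl : Lands U s := by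
    refine lands_of_objMap p3 (fun l => ⟨⟨(l, l, l), by simp [Q]⟩, rfl⟩) (fun x hx => ?_) ?_
    · have h1 := x.2.1
      have h2 := x.2.2
      rw [show x.1.2.2 = 0 from hx, sub_zero] at h1 h2
      refine Subtype.ext (Prod.ext ?_ (Prod.ext ?_ ?_))
      · show x.1.1 ^ 2 = 0
        rw [sq]
        exact hK _ h1 _ h1
      · show x.1.2.1 ^ 2 = 0
        rw [sq]
        exact hK _ h2 _ h2
      · show x.1.2.2 ^ 2 = 0
        rw [show x.1.2.2 = 0 from hx]
        simp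
    · have : objMap p3 ≫ s = pt hU φ₀ := toSec_injective (by
        rw [hp, show p3.comp φA = φ₀ from rfl, show p3.comp φB = φ₀ from rfl, h₀, add_zero]
        exact h₀.symm)
      rw [this]
      exact lands_pt hU φ₀
  obtain ⟨ψ, hψ⟩ := exists_sec hU hl
  have hπ : ∀ π : Q →ₐ[A] L, sec hU (π.comp ψ) = sec hU (π.comp φA) + sec hU (π.comp φB) := fun π => by
    rw [← pull_sec, hψ, pull_toSec, hp]
  have e1 : p1.comp ψ = φa := sec_injective hU (by
    rw [hπ, show p1.comp φA = φa from rfl, show p1.comp φB = φ₀ from rfl, h₀, add_zero])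
  have e2 : p2.comp ψ = φb := sec_injective hU (by
    rw [hπ, show p2.comp φA = φ₀ from rfl, show p2.comp φB = φb from rfl, h₀, zero_add])
  have e3 : p3.comp ψ = φ₀ := sec_injective hU (by
    rw [hπ, show p3.comp φA = φ₀ from rfl, show p3.comp φB = φ₀ from rfl, h₀, add_zero])
  refine ⟨σ.comp ψ, fun x => ?_, ?_⟩
  · show p1 (ψ x) + p2 (ψ x) - p3 (ψ x) = _
    rw [← AlgHom.comp_apply p1, ← AlgHom.comp_apply p2, ← AlgHom.comp_apply p3, e1, e2, e3]
  · rw [hπ, show σ.comp φA = φa from AlgHom.ext fun x => ?_, show σ.comp φB = φb from AlgHom.ext fun x => ?_]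
    · show φ₀ x + φb x - φ₀ x = φb x
      ring
    · show φa x + φ₀ x - φ₀ x = φa x
      ring

/-- The deformations of the unit point and their sections form a group. -/
def defGroup (K : Ideal L) (hK : ∀ a ∈ K, ∀ b ∈ K, a * b = 0)
    (φ₀ : Γ(PT T G, U) →ₐ[Γ(T.left, ⊤)] L) (h₀ : sec hU φ₀ = 0) :
    AddSubgroup ((Γ(PT T G, U) → L) × Sec G (obj T L)) where
  carrier := {p | (∀ x, p.1 x ∈ K) ∧ ∃ φ, (∀ x, φ x = φ₀ x + p.1 x) ∧ sec hU φ = p.2}
  zero_mem' := ⟨fun _ => K.zero_mem, φ₀, fun _ => (add_zero _).symm, h₀⟩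
  add_mem' := by
    rintro p q ⟨hp, φ, hφ, eφ⟩ ⟨hq, φ', hφ', eφ'⟩
    obtain ⟨χ, hχ, eχ⟩ := exists_add hU K hK φ φ' φ₀ (fun x => by simpa [hφ] using hp x)
      (fun x => by simpa [hφ'] using hq x) h₀
    refine ⟨fun x => K.add_mem (hp x) (hq x), χ, fun x => ?_, by rw [eχ, eφ, eφ']; rfl⟩
    rw [hχ, hφ, hφ']
    show _ = φ₀ x + (p.1 x + q.1 x)
    ring
  neg_mem' := by
    rintro p ⟨hp, φ, hφ, eφ⟩
    have hprod : ∀ x y, p.1 x * p.1 y = 0 := fun x y => hK _ (hp x) _ (hp y)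
    let φ' : Γ(PT T G, U) →ₐ[Γ(T.left, ⊤)] L :=
      AlgHom.ofLinearMap (φ₀.toLinearMap + φ₀.toLinearMap - φ.toLinearMap) (by simp) fun x y => by
        show φ₀ (x * y) + φ₀ (x * y) - φ (x * y) = (φ₀ x + φ₀ x - φ x) * (φ₀ y + φ₀ y - φ y)
        rw [map_mul, map_mul, hφ x, hφ y]
        linear_combination -2 * hprod x y
    obtain ⟨χ, hχ, eχ⟩ := exists_add hU K hK φ φ' φ₀ (fun x => by simpa [hφ] using hp x)
      (fun x => by
        show φ₀ x + φ₀ x - φ x - φ₀ x ∈ K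
        rw [show φ₀ x + φ₀ x - φ x - φ₀ x = -p.1 x by rw [hφ]; ring]
        exact K.neg_mem (hp x)) h₀
    have hz : χ = φ₀ := AlgHom.ext fun x => by
      rw [hχ]
      show φ x + (φ₀ x + φ₀ x - φ x) - φ₀ x = φ₀ x
      ring
    refine ⟨fun x => K.neg_mem (hp x), φ', fun x => ?_, ?_⟩
    · show φ₀ x + φ₀ x - φ x = φ₀ x + -p.1 x
      rw [hφ]
      ring
    · rw [hz, h₀, eφ] at eχ
      exact (neg_eq_of_add_eq_zero_right eχ.symm).symm

end Group

end Groth.Agent.SmoothAcyc
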