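import Groth.Agent.SmoothAcyc.Levels
import Groth.Agent.SmoothAcyc.Deriv
import Groth.Agent.HomSch.Weil

/-!
# The smooth algebra of solutions of a cocycle equation
-/

set_option autoImplicit false
set_option linter.style.haveILetI false
set_option backward.isDefEq.respectTransparency.types false

universe u

open CategoryTheory CategoryTheory.Limits AlgebraicGeometry Opposite TensorProduct MonObj

noncomputable section

namespace Groth.Agent.SmoothAcyc

open Groth.Agent.EtaleSite Groth.Agent.EtFppfCmp Groth.Agent.GmFppf Groth.Agent.HomSch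

theorem smooth_chart {S : Scheme.{u}} {T G : Over S} [IsAffine T.left] [Smooth G.hom]
    {U : (PT T G).Opens} (hU : IsAffineOpen U) : Algebra.Smooth Γ(T.left, ⊤) Γ(PT T G, U) :=
  haveI : Smooth (pullback.snd G.hom T.hom) := MorphismProperty.pullback_snd _ _ inferInstance
  RingHom.smooth_algebraMap.1
    ((pullback.snd G.hom T.hom).smooth_appLE (isAffineOpen_top T.left) hU (fun _ _ => trivial))

theorem lvMap_comp {S : Scheme.{u}} {V T : Over S} (w : V ⟶ T) {B B' B'' : Type u} [CommRing B]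
    [Algebra Γ(T.left, ⊤) B] [CommRing B'] [Algebra Γ(T.left, ⊤) B'] [CommRing B''] [Algebra Γ(T.left, ⊤) B'']
    (g : B' →ₐ[Γ(T.left, ⊤)] B'') (f : B →ₐ[Γ(T.left, ⊤)] B') (m : ℕ) :
    lvMap w (g.comp f) m = (lvMap w g m).comp (lvMap w f m) := AlgHom.ext fun z => by
  induction z using TensorProduct.induction_on with
  | zero => simp
  | tmul a c =>
    rfl
  | add x y hx hy => simp only [map_add, hx, hy]

theorem exists_smooth_solution {S : Scheme.{u}} {V T : Over S} (w : V ⟶ T) [IsFFCover w] [IsAffine T.left]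
    {G : Over S} [GrpObj G] [IsCommMonObj G] [Smooth G.hom] (n : ℕ) (c₀ : Sec G (pow w (n + 1)))
    (hc : ∑ k : Fin (n + 3), (-1 : ℤ) ^ (k : ℕ) • pull (faceMor w k.succAbove) c₀ = 0)
    {U U₀ : (PT T G).Opens} (hU : IsAffineOpen U) (hU₀ : IsAffineOpen U₀)
    (K : Type u) [Field K] [Algebra Γ(T.left, ⊤) K]
    (m₀ : obj T (Lv w K n) ⟶ G) (hm₀ : Lands U m₀) (hd : dS w K n (toSec m₀) = cB w K c₀)
    (hz : Lands U₀ (1 : obj T (Lv w K (n + 1)) ⟶ G)) (hzK : Lands U₀ (1 : obj T K ⟶ G)) :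
    ∃ (R : Type u) (_ : CommRing R) (_ : Algebra Γ(T.left, ⊤) R), Algebra.Smooth Γ(T.left, ⊤) R ∧
      Nonempty (R →ₐ[Γ(T.left, ⊤)] K) ∧ ∃ ξ : Sec G (obj T (Lv w R n)), dS w R n ξ = cB w R c₀ := by
  classical
  let A := Γ(T.left, ⊤)
  let O := Γ(PT T G, U)
  let O₀ := Γ(PT T G, U₀)
  haveI : Algebra.Smooth A O := smooth_chart hU
  haveI : Algebra.Smooth A O₀ := smooth_chart hU₀
  haveI := moduleFlat_pow (w := w) n
  haveI := moduleFlat_pow (w := w) (n + 1)
  haveI := moduleFlat_pow (w := w) (n + 2)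
  haveI := moduleFP_pow (w := w) n
  haveI := moduleFP_pow (w := w) (n + 1)
  let C := Γ((pow w n).left, ⊤)
  let C' := Γ((pow w (n + 1)).left, ⊤)
  haveI : Module.Projective A C := Module.Flat.projective_of_finitePresentation
  haveI : Module.Projective A C' := Module.Flat.projective_of_finitePresentation
  -- the Weil restriction of the chart
  obtain ⟨RX, _, _, Φ, hΦ, -, hFP⟩ := exists_weil A C O
  haveI : Algebra.FinitePresentation A RX := hFP inferInstance
  let ξX : Sec G (obj T (Lv w RX n)) := sec hU Φ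
  obtain ⟨x₀, hx₀⟩ := exists_sec hU hm₀
  obtain ⟨χ, hχ, -⟩ := hΦ K x₀
  have hξK : pull (objMap (lvMap w χ n)) ξX = toSec m₀ := by
    rw [pull_sec, ← hx₀]
    exact congrArg (sec hU) hχ
  obtain ⟨me, hme⟩ := exists_toSec (dS w RX n ξX - cB w RX c₀)
  have hmeK : objMap (lvMap w χ (n + 1)) ≫ me = 1 := toSec_injective (by
    rw [← pull_toSec, hme, map_sub, pull_dS, pull_cB, hξK, hd, sub_self]
    rfl)
  -- a basic open on which both points land
  let inc : RX →ₐ[A] Lv w RX (n + 1) := Algebra.TensorProduct.includeLeft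
  let Ω₁ : TopologicalSpace.Opens (PrimeSpectrum (Lv w RX (n + 1))) :=
    toP me ⁻¹ᵁ U₀ ⊓ toP (1 : obj T (Lv w RX (n + 1)) ⟶ G) ⁻¹ᵁ U₀
  let Ω₂ : TopologicalSpace.Opens (PrimeSpectrum RX) := toP (1 : obj T RX ⟶ G) ⁻¹ᵁ U₀
  haveI : Module.Finite RX (Lv w RX (n + 1)) := Module.Finite.base_change A RX C'
  have hclosed : IsClosedMap (PrimeSpectrum.comap inc.toRingHom) :=
    PrimeSpectrum.isClosedMap_comap_of_isIntegral _
      (RingHom.IsIntegral.of_finite (RingHom.finite_algebraMap.2 (inferInstance : Module.Finite RX (Lv w RX (n + 1)))))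
  let q : PrimeSpectrum RX := ⟨RingHom.ker χ, RingHom.ker_isPrime χ⟩
  let Z : Set (PrimeSpectrum RX) := PrimeSpectrum.comap inc.toRingHom '' (↑Ω₁)ᶜ ∪ (↑Ω₂)ᶜ
  have hq : q ∉ Z := by
    rintro (⟨p, hp, hpq⟩ | hq)
    · obtain ⟨P, hP⟩ := exists_prime_over C' χ p (congrArg PrimeSpectrum.asIdeal hpq)
      obtain rfl : PrimeSpectrum.comap (lvMap w χ (n + 1)).toRingHom P = p := PrimeSpectrum.ext hP
      refine hp ⟨?_, ?_⟩
      · show _ ∈ U₀
        have h := hz P
        rw [← hmeK, toP_objMap, Scheme.Hom.comp_apply] at h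
        exact h
      · show _ ∈ U₀
        have h := hz P
        rw [← MonObj.comp_one (objMap (lvMap w χ (n + 1))), toP_objMap, Scheme.Hom.comp_apply] at h
        exact h
    · refine hq ?_
      have h := hzK (default : PrimeSpectrum K)
      rw [← MonObj.comp_one (objMap χ), toP_objMap, Scheme.Hom.comp_apply] at h
      show q ∈ Ω₂
      rwa [show q = PrimeSpectrum.comap χ.toRingHom default from PrimeSpectrum.ext (by
        ext r
        show χ r = 0 ↔ χ r ∈ (default : PrimeSpectrum K).asIdeal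
        rw [show (default : PrimeSpectrum K).asIdeal = ⊥ from Ideal.eq_bot_of_prime _, Ideal.mem_bot])]
  obtain ⟨⟨_, ⟨f, rfl⟩, hfq, hfZ⟩⟩ : Nonempty {V : Set (PrimeSpectrum RX) //
      (∃ f : RX, (PrimeSpectrum.basicOpen f : Set (PrimeSpectrum RX)) = V) ∧ q ∈ V ∧ V ⊆ Zᶜ} := by
    obtain ⟨V, ⟨f, hf⟩, h₁, h₂⟩ := PrimeSpectrum.isTopologicalBasis_basic_opens.exists_subset_of_mem_open
      (show q ∈ Zᶜ from hq) ((hclosed _ Ω₁.isOpen.isClosed_compl).union Ω₂.isOpen.isClosed_compl).isOpen_compl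
    exact ⟨⟨V, ⟨f, hf⟩, h₁, h₂⟩⟩
  have hgood : ∀ p : PrimeSpectrum RX, f ∉ p.asIdeal → p ∈ Ω₂ ∧
      ∀ p' : PrimeSpectrum (Lv w RX (n + 1)), PrimeSpectrum.comap inc.toRingHom p' = p → p' ∈ Ω₁ := by
    intro p hp
    have h := hfZ (show p ∈ (PrimeSpectrum.basicOpen f : Set _) from hp)
    exact ⟨by_contra fun h' => h (Or.inr h'), fun p' e => by_contra fun h' => h (Or.inl ⟨p', h', e⟩)⟩
  -- the localisation
  let R₁ := Localization.Away f
  let il : RX →ₐ[A] R₁ := IsScalarTower.toAlgHom A RX R₁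
  haveI : Algebra.FinitePresentation RX R₁ := IsLocalization.Away.finitePresentation f
  haveI : Algebra.FinitePresentation A R₁ := Algebra.FinitePresentation.trans A RX R₁
  let inc₁ : R₁ →ₐ[A] Lv w R₁ (n + 1) := Algebra.TensorProduct.includeLeft
  have hf₁ : ∀ p : PrimeSpectrum R₁, f ∉ (PrimeSpectrum.comap il.toRingHom p).asIdeal := fun p h =>
    p.isPrime.ne_top (Ideal.eq_top_of_isUnit_mem _ h (IsLocalization.Away.algebraMap_isUnit f))
  have hΩ₁ : ∀ p : PrimeSpectrum (Lv w R₁ (n + 1)),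
      PrimeSpectrum.comap (lvMap w il (n + 1)).toRingHom p ∈ Ω₁ := fun p =>
    (hgood _ (hf₁ (PrimeSpectrum.comap inc₁.toRingHom p))).2 _ (PrimeSpectrum.ext (by
      ext r
      show lvMap w il (n + 1) (r ⊗ₜ 1) ∈ p.asIdeal ↔ inc₁ (il r) ∈ p.asIdeal
      simp [inc₁]))
  obtain ⟨φe, hφe⟩ := exists_sec hU₀ (m := objMap (lvMap w il (n + 1)) ≫ me) (fun p => by
    rw [toP_objMap, Scheme.Hom.comp_apply]
    exact (hΩ₁ p).1)
  obtain ⟨ηu, hη⟩ := exists_sec hU₀ (m := (1 : obj T R₁ ⟶ G)) (fun p => by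
    rw [← MonObj.comp_one (objMap il), toP_objMap, Scheme.Hom.comp_apply]
    exact (hgood _ (hf₁ p)).1)
  replace hη : sec hU₀ ηu = 0 := hη
  replace hφe : sec hU₀ φe = dS w R₁ n (pull (objMap (lvMap w il n)) ξX) - cB w R₁ c₀ := by
    rw [hφe, ← pull_toSec, hme, map_sub, pull_dS, pull_cB]
  let φ₀ : O₀ →ₐ[A] Lv w R₁ (n + 1) := inc₁.comp ηu
  have hφ₀ : sec hU₀ φ₀ = 0 := by rw [← pull_sec, hη, map_zero]
  -- the equations
  obtain ⟨N, π', hπ'⟩ := Module.Finite.exists_fin' A C'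
  obtain ⟨sC, hsC⟩ := Module.projective_lifting_property π' LinearMap.id hπ'
  let eC : Fin N → C' := fun j => π' (Pi.single j 1)
  have heC : ∀ b : C', ∑ j, sC b j • eC j = b := fun b => by
    conv_rhs => rw [← LinearMap.id_apply (R := A) b, ← hsC, LinearMap.comp_apply, pi_eq_sum_univ (sC b), map_sum]
    refine Finset.sum_congr rfl fun j _ => ?_
    rw [map_smul]
    congr 1
    show π' _ = π' _
    congr 1
    funext i
    simp [Pi.single_apply, eq_comm]
  obtain ⟨gens, hgens⟩ := (inferInstance : Algebra.FiniteType A O₀).out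
  let I : Ideal R₁ := Ideal.span ((fun gj : O₀ × Fin N => crd sC R₁ gj.2 (φe gj.1 - φ₀ gj.1)) ''
    ((↑gens : Set O₀) ×ˢ Set.univ))
  have key : ∀ (B : Type u) [CommRing B] [Algebra A B] (ψ : R₁ →ₐ[A] B),
      (lvMap w ψ (n + 1)).comp φe = (lvMap w ψ (n + 1)).comp φ₀ ↔ I ≤ RingHom.ker ψ := by
    intro B _ _ ψ
    constructor
    · intro h
      rw [Ideal.span_le]
      rintro _ ⟨⟨g, j⟩, -, rfl⟩
      show ψ _ = 0
      rw [← crd_map, map_sub]
      show crd sC B j (((lvMap w ψ (n + 1)).comp φe) g - ((lvMap w ψ (n + 1)).comp φ₀) g) = 0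
      rw [h, sub_self, map_zero]
    · intro h
      refine AlgHom.ext_of_adjoin_eq_top hgens fun g hg => ?_
      rw [← sub_eq_zero]
      show lvMap w ψ (n + 1) (φe g) - lvMap w ψ (n + 1) (φ₀ g) = 0
      rw [← map_sub]
      refine (sum_crd sC eC heC B _).symm.trans ?_
      refine Finset.sum_eq_zero fun j _ => ?_
      rw [crd_map, show ψ (crd sC R₁ j (φe g - φ₀ g)) = 0 from
        h (Ideal.subset_span ⟨(g, j), ⟨hg, trivial⟩, rfl⟩), TensorProduct.zero_tmul]
  let π : R₁ →ₐ[A] R₁ ⧸ I := Ideal.Quotient.mkₐ A I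
  haveI : Algebra.FinitePresentation A (R₁ ⧸ I) := Algebra.FinitePresentation.quotient
    (Submodule.fg_span (((gens.finite_toSet).prod Set.finite_univ).image _))
  refine ⟨R₁ ⧸ I, inferInstance, inferInstance, ⟨?_, inferInstance⟩, ?_,
    pull (objMap (lvMap w (π.comp il) n)) ξX, ?_⟩
  rotate_left
  · -- the given point
    let χ₁ : R₁ →ₐ[A] K := IsLocalization.liftAlgHom (M := Submonoid.powers f) (f := χ) (by
      rintro ⟨_, k, rfl⟩
      rw [map_pow]
      exact (isUnit_iff_ne_zero.2 hfq).pow k)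
    have hχ₁ : χ₁.comp il = χ := AlgHom.ext fun r => IsLocalization.lift_eq _ r
    refine ⟨Ideal.Quotient.liftₐ I χ₁ ((key K χ₁).1 (sec_injective hU₀ ?_))⟩
    rw [← pull_sec, ← pull_sec, hφe, hφ₀, map_zero, map_sub, pull_dS, pull_cB, pull_pull, objMap_comp,
      show (lvMap w χ₁ n).comp (lvMap w il n) = lvMap w χ n from ?_, hξK, hd, sub_self]
    rw [← hχ₁]
    exact (lvMap_comp w χ₁ il n).symm
  · -- the solution
    have hπ : I ≤ RingHom.ker π := fun x hx => Ideal.Quotient.eq_zero_iff_mem.2 hx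
    have h := congrArg (sec hU₀) ((key _ π).2 hπ)
    rw [← pull_sec, ← pull_sec, hφe, hφ₀, map_zero, map_sub, pull_dS, pull_cB, pull_pull, objMap_comp,
      sub_eq_zero] at h
    rw [← h, lvMap_comp w π il n]
  -- formal smoothness
  refine Algebra.FormallySmooth.iff_comp_surjective.2 fun B _ _ J hJ χ₀ => ?_
  let ν : B →ₐ[A] B ⧸ J := Ideal.Quotient.mkₐ A J
  have hunit : ∀ b, IsUnit (ν b) → IsUnit b := fun b hb => by
    obtain ⟨y, hy⟩ := Ideal.Quotient.mk_surjective (I := J) ↑hb.unit⁻¹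
    have h1 : b * y - 1 ∈ J := by
      rw [← Ideal.Quotient.eq_zero_iff_mem, map_sub, map_mul, hy, map_one, sub_eq_zero]
      exact hb.mul_val_inv
    have h2 : (b * y - 1) * (b * y - 1) = 0 := by
      have := Ideal.mul_mem_mul h1 h1
      rwa [← sq J, hJ, Ideal.mem_bot] at this
    exact IsUnit.of_mul_eq_one (y * (2 - b * y)) (by linear_combination -h2)
  have hlift : ∀ (x : O →ₐ[A] Lv w B n),
      (lvMap w ν n).comp x = ((lvMap w ((χ₀.comp π).comp il) n)).comp Φ →
      ∃ ψ : R₁ →ₐ[A] B, ν.comp ψ = χ₀.comp π ∧ (lvMap w (ψ.comp il) n).comp Φ = x := by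
    intro x hx
    obtain ⟨ψ₁, hψ₁, -⟩ := hΦ B x
    have h1 : ν.comp ψ₁ = (χ₀.comp π).comp il := (hΦ _ _).unique (y₁ := ν.comp ψ₁) (y₂ := (χ₀.comp π).comp il)
      (by
        rw [← hx, ← hψ₁, ← AlgHom.comp_assoc]
        exact congrArg (fun r => AlgHom.comp r Φ) (lvMap_comp w ν ψ₁ n)) rfl
    have hu : IsUnit (ψ₁ f) := hunit _ (by
      rw [← AlgHom.comp_apply, h1]
      exact (IsLocalization.Away.algebraMap_isUnit f).map (χ₀.comp π))
    let ψ : R₁ →ₐ[A] B := IsLocalization.liftAlgHom (M := Submonoid.powers f) (f := ψ₁) (by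
      rintro ⟨_, k, rfl⟩
      rw [map_pow]
      exact hu.pow k)
    have hψ : ψ.comp il = ψ₁ := AlgHom.ext fun r => IsLocalization.lift_eq _ r
    refine ⟨ψ, IsLocalization.algHom_ext (Submonoid.powers f) ?_, by rw [hψ]; exact hψ₁⟩
    show (ν.comp ψ).comp il = (χ₀.comp π).comp il
    rw [AlgHom.comp_assoc, hψ, h1]
  -- a first lift
  obtain ⟨x, hx⟩ : ∃ x : O →ₐ[A] Lv w B n, (lvMap w ν n).comp x = (lvMap w ((χ₀.comp π).comp il) n).comp Φ := by
    refine ⟨Algebra.FormallySmooth.liftOfSurjective _ (red (A := A) J C) (red_surjective J C)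
      ⟨2, le_bot_iff.1 ?_⟩, Algebra.FormallySmooth.comp_liftOfSurjective _ _ _ _⟩
    rw [sq, Ideal.mul_le]
    exact fun a ha b hb => Ideal.mem_bot.2 (mul_eq_zero_of_mem_ker J C hJ ha hb)
  obtain ⟨ψ, hψ, hψx⟩ := hlift x hx
  let C'' := Γ((pow w (n + 2)).left, ⊤)
  let ηB : O₀ →ₐ[A] B := ψ.comp ηu
  have hηB : sec hU₀ ηB = 0 := by rw [← pull_sec, hη, map_zero]
  let z : ∀ m, O₀ →ₐ[A] Lv w B m := fun m => Algebra.TensorProduct.includeLeft.comp ηB
  have hz0 : ∀ m, sec hU₀ (z m) = 0 := fun m => by rw [← pull_sec, hηB, map_zero]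
  let φe' : O₀ →ₐ[A] Lv w B (n + 1) := (lvMap w ψ (n + 1)).comp φe
  have hz1 : (lvMap w ψ (n + 1)).comp φ₀ = z (n + 1) := AlgHom.ext fun g => by simp [φ₀, inc₁, z, ηB]
  -- the defect
  let D : O₀ → Lv w B (n + 1) := fun g => φe' g - z (n + 1) g
  have hDK : ∀ g, D g ∈ RingHom.ker (red (A := A) J C') := fun g => by
    have h := (key _ (χ₀.comp π)).2 (fun a ha => by
      show χ₀ (π a) = 0
      rw [show π a = 0 from Ideal.Quotient.eq_zero_iff_mem.2 ha, map_zero])
    rw [← hψ] at h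
    have hc' : lvMap w (ν.comp ψ) (n + 1) = (red (A := A) J C').comp (lvMap w ψ (n + 1)) :=
      lvMap_comp w ν ψ (n + 1)
    rw [hc', AlgHom.comp_assoc, AlgHom.comp_assoc, hz1] at h
    rw [RingHom.mem_ker, map_sub]
    exact sub_eq_zero.2 congr($h g)
  have he : sec hU₀ φe' = dS w B n (pull (objMap (lvMap w ψ n)) (pull (objMap (lvMap w il n)) ξX)) -
      cB w B c₀ := by
    rw [← pull_sec, hφe, map_sub, pull_dS, pull_cB]
  have hde : dS w B (n + 1) (sec hU₀ φe') = 0 := by rw [he, map_sub, dS_dS, dS_cB w c₀ hc, sub_zero]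
  have hfz : ∀ {k m : ℕ} (τ : Fin (k + 1) → Fin (m + 1)), (lvFace w B τ).comp (z k) = z m := fun τ =>
    AlgHom.ext fun g => by simp [z]
  have hfK : ∀ {k m : ℕ} (τ : Fin (k + 1) → Fin (m + 1)) (y : Lv w B k),
      y ∈ RingHom.ker (red (A := A) J Γ((pow w k).left, ⊤)) →
      lvFace w B τ y ∈ RingHom.ker (red (A := A) J Γ((pow w m).left, ⊤)) := fun {k m} τ y hy => by
    rw [RingHom.mem_ker]
    show chg _ (Ideal.Quotient.mkₐ A J) (bcA B (faceAlg w τ) y) = 0
    rw [chg_bcA, show chg _ (Ideal.Quotient.mkₐ A J) y = 0 from hy, map_zero]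
  let Def := fun m => defGroup hU₀ (RingHom.ker (red (A := A) J Γ((pow w m).left, ⊤)))
    (fun a ha b hb => mul_eq_zero_of_mem_ker J _ hJ ha hb) (z m) (hz0 m)
  have hsum : ∀ (m : ℕ) (φ : O₀ →ₐ[A] Lv w B m) (E : O₀ → Lv w B m),
      (∀ g, E g ∈ RingHom.ker (red (A := A) J Γ((pow w m).left, ⊤))) → (∀ g, φ g = z m g + E g) →
      ∃ φ' : O₀ →ₐ[A] Lv w B (m + 1), (∀ g, φ' g = z (m + 1) g + (dA w m).lTensor B (E g)) ∧
        sec hU₀ φ' = dS w B m (sec hU₀ φ) := by
    intro m φ E hE hφ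
    have hmem : ∑ k : Fin (m + 2), (-1 : ℤ) ^ (k : ℕ) •
        (((fun g => lvFace w B k.succAbove (E g)), pull (objMap (lvFace w B k.succAbove)) (sec hU₀ φ)) :
          (O₀ → Lv w B (m + 1)) × Sec G (obj T (Lv w B (m + 1)))) ∈ Def (m + 1) := by
      refine AddSubgroup.sum_mem _ fun k _ => AddSubgroup.zsmul_mem _ ?_ _
      refine ⟨fun g => hfK _ _ (hE g), (lvFace w B k.succAbove).comp φ, fun g => ?_, (pull_sec hU₀ _ _).symm⟩
      rw [AlgHom.comp_apply, hφ, map_add]
      exact congrArg (· + _) congr($(hfz k.succAbove) g)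
    obtain ⟨-, φ', hφ', eφ'⟩ := hmem
    refine ⟨φ', fun g => ?_, ?_⟩
    · rw [hφ', lTensor_dA, Prod.fst_sum, Finset.sum_apply]
      rfl
    · rw [eφ', Prod.snd_sum, dS_apply]
      rfl
  obtain ⟨φd, hφd, eφd⟩ := hsum (n + 1) φe' D hDK fun g => (add_sub_cancel _ _).symm
  have hdD : ∀ g, (dA w (n + 1)).lTensor B (D g) = 0 := fun g => by
    have : φd = z (n + 2) := sec_injective hU₀ (by rw [eφd, hde, hz0])
    simpa [this] using hφd g
  -- solve the linearised equation
  letI : Algebra O₀ B := ηB.toRingHom.toAlgebra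
  haveI : IsScalarTower A O₀ B := IsScalarTower.of_algebraMap_eq fun a => (ηB.commutes a).symm
  have hsmul : ∀ {m : ℕ} (g : O₀) (y : J ⊗[A] Γ((pow w m).left, ⊤)),
      incJ J _ (g • y) = z m g * incJ J _ y := fun {m} g y => by
    induction y using TensorProduct.induction_on with
    | zero => simp
    | tmul j c =>
      show ((g • j : J) : B) ⊗ₜ c = (ηB g ⊗ₜ 1) * ((j : B) ⊗ₜ c)
      rw [Algebra.TensorProduct.tmul_mul_tmul, _root_.one_mul]
      rfl
    | add x y hx hy => rw [smul_add, map_add, hx, hy, map_add, mul_add]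
  choose D' hD' using fun g => exists_incJ_eq J C' (hDK g)
  have hinj := incJ_injective (A := A) J C'
  let Dlin : O₀ →ₗ[A] J ⊗[A] C' :=
    { toFun := D'
      map_add' := fun a b => hinj (by
        rw [map_add, hD', hD', hD']
        show φe' (a + b) - z (n + 1) (a + b) = (φe' a - z (n + 1) a) + (φe' b - z (n + 1) b)
        rw [map_add, map_add, add_sub_add_comm])
      map_smul' := fun a b => hinj (by
        rw [RingHom.id_apply, map_smul, hD', hD']
        show φe' (a • b) - z (n + 1) (a • b) = a • (φe' b - z (n + 1) b)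
        rw [map_smul, map_smul, smul_sub]) }
  let Dd : Derivation A O₀ (J ⊗[A] C') := Derivation.mk' Dlin fun a b => hinj (by
    show incJ J C' (D' (a * b)) = incJ J C' (a • D' b + b • D' a)
    rw [map_add, hsmul, hsmul, hD', hD', hD']
    show φe' (a * b) - z (n + 1) (a * b) =
      z (n + 1) a * (φe' b - z (n + 1) b) + z (n + 1) b * (φe' a - z (n + 1) a)
    rw [map_mul, map_mul]
    linear_combination mul_eq_zero_of_mem_ker J C' hJ (hDK a) (hDK b))
  have hnat : ∀ m (y : J ⊗[A] Γ((pow w m).left, ⊤)),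
      incJ J _ ((dA w m).lTensor J y) = (dA w m).lTensor B (incJ J _ y) := fun m y => by
    induction y using TensorProduct.induction_on with
    | zero => simp
    | tmul j c => rfl
    | add x y hx hy => simp only [map_add, hx, hy]
  have hex := exact_lTensor_dA w J n
  obtain ⟨H, hH⟩ := exists_deriv_comp_eq
    (TensorProduct.AlgebraTensorModule.lTensor O₀ J (dA w n))
    (TensorProduct.AlgebraTensorModule.lTensor O₀ J (dA w (n + 1))) hex Dd fun g =>
      incJ_injective (A := A) J C'' (by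
        show incJ J C'' ((dA w (n + 1)).lTensor J (D' g)) = incJ J C'' 0
        rw [hnat, hD', hdD, map_zero])
  -- correct the lift
  let φh : O₀ →ₐ[A] Lv w B n := AlgHom.ofLinearMap
    ((z n).toLinearMap + incJ J C ∘ₗ H.toLinearMap) (by simp) (fun a b => by
      show z n (a * b) + incJ J C (H (a * b)) = (z n a + incJ J C (H a)) * (z n b + incJ J C (H b))
      rw [map_mul, Derivation.leibniz, map_add, hsmul, hsmul]
      linear_combination -mul_eq_zero_of_mem_ker J C hJ (incJ_mem J C (H a)) (incJ_mem J C (H b)))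
  obtain ⟨φdh, hφdh, eφdh⟩ := hsum n φh (fun g => incJ J C (H g)) (fun g => incJ_mem J C _) fun g => rfl
  have hdh : dS w B n (sec hU₀ φh) = sec hU₀ φe' := by
    rw [← eφdh]
    refine congrArg (sec hU₀) (AlgHom.ext fun g => ?_)
    rw [hφdh, ← hnat, show (dA w n).lTensor J (H g) = D' g from hH g, hD']
    exact add_sub_cancel _ _
  obtain ⟨mx, hmx⟩ := exists_toSec (sec hU x - sec hU₀ φh)
  have hmxred : objMap (red (A := A) J C) ≫ mx = pt hU ((red (A := A) J C).comp x) := toSec_injective (by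
    rw [← pull_toSec, hmx, map_sub, pull_sec, pull_sec,
      show (red (A := A) J C).comp φh = (red (A := A) J C).comp (z n) from AlgHom.ext fun g => by
        show red (A := A) J C (z n g + incJ J C (H g)) = red (A := A) J C (z n g)
        rw [map_add, show red (A := A) J C (incJ J C (H g)) = 0 from incJ_mem J C _, add_zero],
      ← pull_sec hU₀, hz0, map_zero, sub_zero]
    rfl)
  obtain ⟨x', hx'⟩ := exists_sec hU (lands_of_objMap (red (A := A) J C) (red_surjective J C)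
    (fun a ha => by rw [sq]; exact mul_eq_zero_of_mem_ker J C hJ ha ha)
    (m := mx) (hmxred ▸ lands_pt hU _))
  obtain ⟨ψ', hψ', hψx'⟩ := hlift x' (sec_injective hU (by
    rw [← hx, ← pull_sec, hx', pull_toSec]
    exact congrArg toSec hmxred))
  have hker : I ≤ RingHom.ker ψ' := (key B ψ').1 (sec_injective hU₀ (by
    have e1 : ∀ (θ : R₁ →ₐ[A] B) (y : O →ₐ[A] Lv w B n), (lvMap w (θ.comp il) n).comp Φ = y →
        pull (objMap (lvMap w θ n)) (pull (objMap (lvMap w il n)) ξX) = sec hU y := fun θ y hy => by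
      rw [pull_pull, objMap_comp, pull_sec, ← hy]
      exact congrArg (fun r => sec hU (AlgHom.comp r Φ)) (lvMap_comp w θ il n).symm
    rw [← pull_sec, ← pull_sec, hφe, hφ₀, map_zero, map_sub, pull_dS, pull_cB, e1 ψ' x' hψx', hx',
      hmx, map_sub, hdh, he, e1 ψ x hψx]
    abel))
  refine ⟨Ideal.Quotient.liftₐ I ψ' hker, Ideal.Quotient.algHom_ext A ?_⟩
  rw [AlgHom.comp_assoc]
  exact AlgHom.ext fun r => congr($hψ' r)

end Groth.Agent.SmoothAcyc
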